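import Groth.Prelude.Def_RootCh
import Groth.Prelude.Def_RootCh2
import Mathlib

/-!
# Bases, chambers and fundamental weights of a finite root system over an ordered field
-/

set_option autoImplicit false
set_option linter.unusedSectionVars false

noncomputable section

open Module RootCh

namespace Groth.Agent.RootChLib

universe u v w x

variable {ι : Type u} {R : Type v} {M : Type w} {N : Type x}
  [Field R] [LinearOrder R] [IsStrictOrderedRing R]
  [AddCommGroup M] [Module R M] [AddCommGroup N] [Module R N] [Finite ι]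
  {P : RootPairing ι R M N} [P.IsRootSystem] [P.IsCrystallographic] [P.IsReduced]

/-- The index of the opposite root. -/
abbrev ng (P : RootPairing ι R M N) (i : ι) : ι := P.reflectionPerm i i

omit [LinearOrder R] [IsStrictOrderedRing R] [Finite ι] [P.IsRootSystem] [P.IsCrystallographic] [P.IsReduced] in
lemma root_ng (i : ι) : P.root (ng P i) = - P.root i := by
  rw [RootPairing.root_reflectionPerm, RootPairing.reflection_apply_self]

omit [LinearOrder R] [IsStrictOrderedRing R] [Finite ι] [P.IsRootSystem] [P.IsCrystallographic] [P.IsReduced] in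
lemma coroot'_ng (i : ι) (ξ : M) : P.coroot' (ng P i) ξ = - P.coroot' i ξ := by
  change P.toLinearMap ξ (P.coroot (ng P i)) = - P.toLinearMap ξ (P.coroot i)
  rw [RootPairing.coroot_reflectionPerm, RootPairing.coreflection_apply_self, map_neg]

omit [LinearOrder R] [IsStrictOrderedRing R] [Finite ι] [P.IsRootSystem] [P.IsCrystallographic] [P.IsReduced] in
lemma root'_ng (i : ι) (y : N) : P.root' (ng P i) y = - P.root' i y := by
  change P.toLinearMap (P.root (ng P i)) y = - P.toLinearMap (P.root i) y
  rw [root_ng, map_neg, LinearMap.neg_apply]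

omit [LinearOrder R] [IsStrictOrderedRing R] [Finite ι] [P.IsRootSystem] [P.IsCrystallographic] [P.IsReduced] in
lemma ng_ng (i : ι) : ng P (ng P i) = i :=
  P.root.injective (by rw [root_ng, root_ng, neg_neg])

/-! ### The invariant form -/

/-- The canonical isomorphism `M ≃ N` given by the invariant form. -/
def pol (P : RootPairing ι R M N) [P.IsRootSystem] : M ≃ₗ[R] N :=
  letI := Fintype.ofFinite ι
  P.PolarizationEquiv

/-- Half the squared length of a root. -/
def qlen (P : RootPairing ι R M N) (i : ι) : R :=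
  letI := Fintype.ofFinite ι
  P.RootForm (P.root i) (P.root i) / 2

omit [P.IsCrystallographic] [P.IsReduced] in
lemma pair_pol_comm (ξ η : M) : P.toLinearMap ξ (pol P η) = P.toLinearMap η (pol P ξ) := by
  let := Fintype.ofFinite ι
  simp only [pol, RootPairing.polarizationEquiv_apply]
  rw [P.toLinearMap_apply_apply_Polarization, P.toLinearMap_apply_apply_Polarization]
  exact P.rootForm_symmetric.eq η ξ

omit [P.IsCrystallographic] [P.IsReduced] in
lemma pair_pol_pos {ξ : M} (h : ξ ≠ 0) : 0 < P.toLinearMap ξ (pol P ξ) := by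
  let := Fintype.ofFinite ι
  rw [pol, RootPairing.polarizationEquiv_apply, P.toLinearMap_apply_apply_Polarization]
  exact P.rootForm_pos_of_ne_zero (by simp) h

omit [P.IsCrystallographic] [P.IsReduced] in
lemma qlen_pos (i : ι) : 0 < qlen P i := by
  let := Fintype.ofFinite ι
  have := P.rootForm_pos_of_ne_zero (x := P.root i) (by simp) (P.ne_zero i)
  simp only [qlen]; linarith

omit [P.IsCrystallographic] [P.IsReduced] in
lemma pol_root (i : ι) : pol P (P.root i) = qlen P i • P.coroot i := by
  let := Fintype.ofFinite ι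
  have h : P.RootForm (P.root i) (P.root i) ≠ 0 :=
    (P.rootForm_pos_of_ne_zero (x := P.root i) (by simp) (P.ne_zero i)).ne'
  rw [P.coroot_eq_polarizationEquiv_apply_root, smul_smul, qlen, pol]
  field_simp
  rw [one_smul]

omit [P.IsCrystallographic] [P.IsReduced] in
/-- `⟪α, φ ξ⟫` is a positive multiple of `⟪ξ, α̌⟫`. -/
lemma root'_pol (i : ι) (ξ : M) : P.root' i (pol P ξ) = qlen P i * P.coroot' i ξ := by
  change P.toLinearMap (P.root i) (pol P ξ) = qlen P i * P.toLinearMap ξ (P.coroot i)
  rw [pair_pol_comm, pol_root, map_smul, smul_eq_mul]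

omit [P.IsCrystallographic] [P.IsReduced] in
lemma cosgnVec_pol (ξ : M) : cosgnVec P (pol P ξ) = sgnVec P ξ := by
  funext i
  rw [cosgnVec, root'_pol, sign_mul, sign_pos (qlen_pos i), one_mul]
  rfl

omit [LinearOrder R] [IsStrictOrderedRing R] [Finite ι] [P.IsCrystallographic] [P.IsReduced] in
lemma ext_weight {y y' : N} (h : ∀ ξ : M, P.toLinearMap ξ y = P.toLinearMap ξ y') : y = y' :=
  P.flip.toPerfPair.injective (LinearMap.ext h)

/-! ### Positive roots -/

omit [P.IsRootSystem] [P.IsCrystallographic] [P.IsReduced] in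
lemma isPos_ng_iff (b : P.Base) (i : ι) : b.IsPos (ng P i) ↔ ¬ b.IsPos i :=
  RootPairing.Base.IsPos.neg_iff_not b i

omit [P.IsRootSystem] [P.IsCrystallographic] [P.IsReduced] in
lemma exists_nat_combo {b : P.Base} {i : ι} (hi : b.IsPos i) :
    ∃ n : ι → ℕ, P.root i = ∑ j ∈ b.support, n j • P.root j := by
  obtain ⟨n, -, h | h⟩ := b.exists_root_eq_sum_nat_or_neg i
  · exact ⟨n, h⟩
  · exfalso
    have h' : P.root i = ∑ j ∈ b.support, (-(n j : ℤ)) • P.root j := by
      rw [h, ← Finset.sum_neg_distrib]
      simp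
    rw [RootPairing.Base.isPos_iff, RootPairing.Base.height_eq_sum h'] at hi
    have : ∑ j ∈ b.support, (-(n j : ℤ)) ≤ 0 := Finset.sum_nonpos fun j _ => by omega
    omega

omit [P.IsCrystallographic] [P.IsReduced] in
/-- the coroot of a positive root is a non-negative combination of simple coroots -/
lemma qlen_mul_coroot' {b : P.Base} {i : ι} (n : ι → ℕ) (hn : P.root i = ∑ j ∈ b.support, n j • P.root j)
    (ξ : M) : qlen P i * P.coroot' i ξ = ∑ j ∈ b.support, (n j : R) * (qlen P j * P.coroot' j ξ) := by
  simp only [← root'_pol]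
  change P.toLinearMap (P.root i) (pol P ξ) = ∑ j ∈ b.support, (n j : R) * P.toLinearMap (P.root j) (pol P ξ)
  rw [hn, map_sum, LinearMap.sum_apply]
  simp [nsmul_eq_mul]

omit [P.IsCrystallographic] [P.IsReduced] in
lemma coroot'_nonneg {b : P.Base} {ξ : M} (hξ : ξ ∈ closedChamber b) {i : ι} (hi : b.IsPos i) :
    0 ≤ P.coroot' i ξ := by
  obtain ⟨n, hn⟩ := exists_nat_combo hi
  have := qlen_mul_coroot' n hn ξ
  nlinarith [qlen_pos (P := P) i, Finset.sum_nonneg fun j (hj : j ∈ b.support) =>
    mul_nonneg (Nat.cast_nonneg (α := R) (n j)) (mul_nonneg (qlen_pos (P := P) j).le (hξ j hj))]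

omit [P.IsCrystallographic] [P.IsReduced] in
lemma coroot'_nonpos {b : P.Base} {ξ : M} (hξ : ξ ∈ closedChamber b) {i : ι} (hi : ¬ b.IsPos i) :
    P.coroot' i ξ ≤ 0 := by
  have := coroot'_nonneg hξ ((isPos_ng_iff b i).mpr hi)
  rw [coroot'_ng] at this
  linarith

omit [P.IsCrystallographic] [P.IsReduced] in
lemma mem_closedChamber_iff (b : P.Base) (ξ : M) :
    ξ ∈ closedChamber b ↔ ∀ i, b.IsPos i → 0 ≤ P.coroot' i ξ :=
  ⟨fun h _ hi => coroot'_nonneg h hi, fun h i hi => h i (RootPairing.Base.isPos_of_mem_support hi)⟩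

omit [P.IsCrystallographic] [P.IsReduced] in
lemma isPos_of_coroot'_pos {b : P.Base} {ξ : M} (hξ : ξ ∈ closedChamber b) {i : ι}
    (hi : 0 < P.coroot' i ξ) : b.IsPos i := by
  by_contra h
  exact absurd (coroot'_nonpos hξ h) (not_le.mpr hi)

omit [P.IsCrystallographic] [P.IsReduced] in
lemma coroot'_pos_iff {b : P.Base} {ξ : M} (hξ : ξ ∈ closedChamber b) {i : ι} {n : ι → ℕ}
    (hn : P.root i = ∑ j ∈ b.support, n j • P.root j) :
    0 < P.coroot' i ξ ↔ ∃ j ∈ b.support, n j ≠ 0 ∧ 0 < P.coroot' j ξ := by
  have h0 : ∀ j ∈ b.support, 0 ≤ (n j : R) * (qlen P j * P.coroot' j ξ) := fun j hj =>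
    mul_nonneg (Nat.cast_nonneg _) (mul_nonneg (qlen_pos j).le (hξ j hj))
  rw [← mul_pos_iff_of_pos_left (qlen_pos (P := P) i), qlen_mul_coroot' n hn,
    Finset.sum_pos_iff_of_nonneg h0]
  refine exists_congr fun j => and_congr_right fun hj => ?_
  constructor
  · intro h
    refine ⟨fun h' => by simp [h'] at h, ?_⟩
    rcases eq_or_lt_of_le (hξ j hj) with h' | h'
    · exact absurd h (by simp [← h'])
    · exact h'
  · rintro ⟨h1, h2⟩
    exact mul_pos (by exact_mod_cast Nat.pos_of_ne_zero h1) (mul_pos (qlen_pos j) h2)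

omit [P.IsCrystallographic] [P.IsReduced] in
/-- two dominant vectors with the same signs on simple coroots have the same sign vector -/
lemma sgnVec_eq_of_support {b : P.Base} {ξ η : M} (hξ : ξ ∈ closedChamber b) (hη : η ∈ closedChamber b)
    (h : ∀ j ∈ b.support, 0 < P.coroot' j ξ ↔ 0 < P.coroot' j η) : sgnVec P ξ = sgnVec P η := by
  have key : ∀ i, b.IsPos i → sgnVec P ξ i = sgnVec P η i := by
    intro i hi
    obtain ⟨n, hn⟩ := exists_nat_combo hi
    have hiff : 0 < P.coroot' i ξ ↔ 0 < P.coroot' i η := by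
      rw [coroot'_pos_iff hξ hn, coroot'_pos_iff hη hn]
      exact exists_congr fun j => and_congr_right fun hj => and_congr_right fun _ => h j hj
    rcases eq_or_lt_of_le (coroot'_nonneg hη hi) with h1 | h1
    · rcases eq_or_lt_of_le (coroot'_nonneg hξ hi) with h2 | h2
      · simp [sgnVec, ← h1, ← h2]
      · exact absurd (hiff.mp h2) (by rw [← h1]; exact lt_irrefl _)
    · change SignType.sign (P.coroot' i ξ) = SignType.sign (P.coroot' i η)
      rw [sign_pos h1, sign_pos (hiff.mpr h1)]
  funext i
  by_cases hi : b.IsPos i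
  · exact key i hi
  · have := key _ ((isPos_ng_iff b i).mpr hi)
    simp only [sgnVec, coroot'_ng, Left.sign_neg] at this
    exact neg_injective this

omit [P.IsReduced] in
lemma isPos_of_forall_support (b b' : P.Base) (h : ∀ k ∈ b'.support, b.IsPos k) (i : ι) :
    b'.IsPos i ↔ b.IsPos i := by
  have key : ∀ i, b'.IsPos i → b.IsPos i := fun i hi =>
    hi.induction_on_add h fun _ _ _ hk hp hj => hp.add (h _ hj) hk
  refine ⟨key i, fun hi => ?_⟩
  by_contra h'
  exact (isPos_ng_iff b i).mp (key _ ((isPos_ng_iff b' i).mpr h')) hi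

/-- A base is recovered from a regular functional on the roots. -/
lemma exists_base_of_regular (y : N) (hy : ∀ i, P.root' i y ≠ 0) :
    ∃ b : P.Base, ∀ i, b.IsPos i ↔ 0 < P.root' i y := by
  let := P.indexNeg
  let f : Dual R M := P.toLinearMap.flip y
  have hf : ∀ i, f (P.root i) ≠ 0 := hy
  let s := IsAddIndecomposable.baseOf P.root (f : M →+ R)
  let b : P.Base := RootPairing.Base.mk' P s (P.linearIndepOn_root_baseOf' f hf)
    (fun i => IsAddIndecomposable.mem_or_neg_mem_closure_baseOf P.root (f : M →+ R) i (hf i) (by simp))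
  have hs : ∀ j ∈ b.support, 0 < P.root' j y := fun j hj => by
    have : j ∈ s := by simpa [b, RootPairing.Base.mk'] using hj
    exact this.1
  have key : ∀ i, b.IsPos i → 0 < P.root' i y := by
    intro i hi
    refine hi.induction_on_add hs fun i j k hk hp hj => ?_
    change 0 < P.toLinearMap (P.root k) y
    rw [hk, map_add, LinearMap.add_apply]
    exact add_pos hp (hs j hj)
  refine ⟨b, fun i => ⟨key i, fun hi => ?_⟩⟩
  by_contra h
  have := key _ ((isPos_ng_iff b i).mpr h)
  rw [root'_ng] at this
  linarith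

/-! ### Fundamental weights -/

omit [LinearOrder R] [IsStrictOrderedRing R] [Finite ι] [P.IsCrystallographic] [P.IsReduced] in
lemma coroot'_fundWeight (b : P.Base) [DecidableEq ι] (k : b.support) {j : ι} (hj : j ∈ b.support) :
    P.coroot' j (fundWeight b k) = if j = (k : ι) then 1 else 0 := by
  split_ifs with h
  · subst h; exact coroot'_fundWeight_self b k
  · exact coroot'_fundWeight_of_ne b k ⟨j, hj⟩ fun he => h (congrArg Subtype.val he)

omit [Finite ι] [P.IsCrystallographic] [P.IsReduced] in
lemma fundWeight_mem_closedChamber (b : P.Base) (k : b.support) : fundWeight b k ∈ closedChamber b := by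
  classical
  intro j hj
  rw [coroot'_fundWeight b k hj]
  split_ifs <;> simp

omit [LinearOrder R] [IsStrictOrderedRing R] [Finite ι] [P.IsCrystallographic] [P.IsReduced] in
lemma ext_base (b : P.Base) {ξ η : M} (h : ∀ j ∈ b.support, P.coroot' j ξ = P.coroot' j η) : ξ = η := by
  refine P.toPerfPair.injective (b.toCoweightBasis.ext fun j => ?_)
  simp only [RootPairing.Base.toCoweightBasis_apply, LinearMap.toPerfPair_apply]
  exact h j j.2

omit [LinearOrder R] [IsStrictOrderedRing R] [Finite ι] [P.IsCrystallographic] [P.IsReduced] in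
lemma coroot'_combo (b : P.Base) (c : b.support → R) (k : b.support) :
    P.coroot' k (∑ l, c l • fundWeight b l) = c k := by
  rw [map_sum, Finset.sum_eq_single k (fun l _ hl => by
    rw [map_smul, coroot'_fundWeight_of_ne b l k (Ne.symm hl), smul_zero]) (by simp)]
  rw [map_smul, coroot'_fundWeight_self, smul_eq_mul, mul_one]

omit [LinearOrder R] [IsStrictOrderedRing R] [Finite ι] [P.IsCrystallographic] [P.IsReduced] in
lemma expand (b : P.Base) (ξ : M) : ξ = ∑ k : b.support, P.coroot' k ξ • fundWeight b k :=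
  ext_base b fun j hj => (coroot'_combo b (fun k => P.coroot' k ξ) ⟨j, hj⟩).symm

omit [LinearOrder R] [IsStrictOrderedRing R] [Finite ι] [P.IsCrystallographic] [P.IsReduced] in
lemma fundWeight_injective (b : P.Base) : Function.Injective (fundWeight b) := by
  intro k l h
  by_contra hne
  have := coroot'_fundWeight_self b k
  rw [h, coroot'_fundWeight_of_ne b l k hne] at this
  exact zero_ne_one this

/-- The vector `ρ`. -/
def rho (b : P.Base) : M := ∑ k : b.support, fundWeight b k

omit [LinearOrder R] [IsStrictOrderedRing R] [Finite ι] [P.IsCrystallographic] [P.IsReduced] in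
lemma coroot'_rho (b : P.Base) {j : ι} (hj : j ∈ b.support) : P.coroot' j (rho b) = 1 := by
  have := coroot'_combo b (fun _ => 1) ⟨j, hj⟩
  simpa [rho] using this

omit [Finite ι] [P.IsCrystallographic] [P.IsReduced] in
lemma rho_mem (b : P.Base) : rho b ∈ closedChamber b := fun j hj => by
  rw [coroot'_rho b hj]; exact zero_le_one

omit [P.IsCrystallographic] [P.IsReduced] in
lemma coroot'_rho_pos {b : P.Base} {i : ι} (hi : b.IsPos i) : 0 < P.coroot' i (rho b) := by
  obtain ⟨n, hn⟩ := exists_nat_combo hi
  rw [coroot'_pos_iff (rho_mem b) hn]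
  by_contra! h
  have : ∀ j ∈ b.support, n j = 0 := fun j hj => by
    by_contra h'
    have := h j hj h'
    rw [coroot'_rho b hj] at this
    linarith [zero_lt_one (α := R)]
  exact P.ne_zero i (by rw [hn, Finset.sum_eq_zero fun j hj => by rw [this j hj, zero_smul]])

omit [P.IsCrystallographic] [P.IsReduced] in
lemma coroot'_rho_ne (b : P.Base) (i : ι) : P.coroot' i (rho b) ≠ 0 := by
  by_cases hi : b.IsPos i
  · exact (coroot'_rho_pos hi).ne'
  · have := coroot'_rho_pos ((isPos_ng_iff b i).mpr hi)
    rw [coroot'_ng] at this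
    exact fun h => by simp [h] at this

/-- Every vector lies in a closed chamber. -/
lemma exists_mem_closedChamber (P : RootPairing ι R M N) [P.IsRootSystem] [P.IsCrystallographic]
    [P.IsReduced] (ξ : M) : ∃ b : P.Base, ξ ∈ closedChamber b := by
  let := Fintype.ofFinite ι
  obtain ⟨b₀⟩ := P.nonempty_base
  let r := fun i => P.coroot' i (rho b₀)
  let a := fun i => P.coroot' i ξ
  let C : R := 1 + ∑ i, |r i| / |a i|
  have hC : 0 < C := add_pos_of_pos_of_nonneg one_pos
    (Finset.sum_nonneg fun i _ => div_nonneg (abs_nonneg _) (abs_nonneg _))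
  let z : M := C • ξ + rho b₀
  have hz : ∀ i, P.coroot' i z = C * a i + r i := fun i => by simp [z, a, r]
  have hbig : ∀ i, a i ≠ 0 → |r i| < C * |a i| := fun i hi => by
    rw [← div_lt_iff₀ (abs_pos.mpr hi)]
    calc |r i| / |a i| ≤ ∑ l, |r l| / |a l| :=
          Finset.single_le_sum (f := fun l => |r l| / |a l|)
            (fun l _ => div_nonneg (abs_nonneg _) (abs_nonneg _)) (Finset.mem_univ i)
      _ < C := lt_one_add _
  have hneg : ∀ i, a i < 0 → P.coroot' i z < 0 := fun i hi => by
    rw [hz]
    have := hbig i hi.ne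
    rw [abs_of_neg hi] at this
    nlinarith [le_abs_self (r i)]
  have hne : ∀ i, P.coroot' i z ≠ 0 := fun i => by
    rcases lt_trichotomy (a i) 0 with h | h | h
    · exact (hneg i h).ne
    · rw [hz, h, mul_zero, zero_add]; exact coroot'_rho_ne b₀ i
    · rw [hz]
      have := hbig i h.ne'
      rw [abs_of_pos h] at this
      exact ne_of_gt (by nlinarith [neg_abs_le (r i)])
  obtain ⟨b, hb⟩ := exists_base_of_regular (pol P z) fun i => by
    rw [root'_pol]; exact mul_ne_zero (qlen_pos i).ne' (hne i)
  refine ⟨b, fun j hj => ?_⟩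
  have := (hb j).mp (RootPairing.Base.isPos_of_mem_support hj)
  rw [root'_pol, mul_pos_iff_of_pos_left (qlen_pos j)] at this
  by_contra h
  exact absurd this (not_lt.mpr (hneg j (not_le.mp h)).le)

omit [LinearOrder R] [IsStrictOrderedRing R] [Finite ι] [P.IsRootSystem] [P.IsCrystallographic] [P.IsReduced] in
lemma root'_coreflection (j i : ι) (y : N) :
    P.root' i (P.coreflection j y) = P.root' (P.reflectionPerm j i) y := by
  change P.toLinearMap (P.root i) _ = P.toLinearMap (P.root (P.reflectionPerm j i)) y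
  simp [RootPairing.coreflection_apply, RootPairing.reflection_apply, mul_comm]

lemma reflectionPerm_ng (j i : ι) : P.reflectionPerm j (ng P i) = ng P (P.reflectionPerm j i) :=
  P.root.injective (by rw [root_ng, RootPairing.root_reflectionPerm, root_ng, map_neg,
    ← RootPairing.root_reflectionPerm])

/-- The base adjacent to `b` through the wall of the simple root `j`. -/
lemma exists_adjacent (b : P.Base) {j : ι} (hj : j ∈ b.support) :
    ∃ b' : P.Base, ¬ b'.IsPos j ∧ b'.IsPos (ng P j) ∧
      ∀ i, i ≠ j → i ≠ ng P j → (b'.IsPos i ↔ b.IsPos i) := by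
  let y := P.coreflection j (pol P (rho b))
  have hy : ∀ i, P.root' i y = qlen P (P.reflectionPerm j i) * P.coroot' (P.reflectionPerm j i) (rho b) :=
    fun i => by rw [root'_coreflection, root'_pol]
  obtain ⟨b', hb'⟩ := exists_base_of_regular y fun i => by
    rw [hy]; exact mul_ne_zero (qlen_pos _).ne' (coroot'_rho_ne b _)
  have hpos : ∀ i, b'.IsPos i ↔ b.IsPos (P.reflectionPerm j i) := fun i => by
    rw [hb', hy, mul_pos_iff_of_pos_left (qlen_pos _)]
    exact ⟨isPos_of_coroot'_pos (rho_mem b), coroot'_rho_pos⟩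
  have hjj : ¬ b'.IsPos j := by
    rw [hpos]
    exact fun h => (isPos_ng_iff b j).mp h (RootPairing.Base.isPos_of_mem_support hj)
  refine ⟨b', hjj, (isPos_ng_iff b' j).mpr hjj, fun i h1 h2 => ?_⟩
  rw [hpos]
  constructor
  · intro h
    by_contra hi
    have h3 : ng P i ≠ j := fun h' => h2 (by rw [← h', ng_ng])
    have := ((isPos_ng_iff b i).mpr hi).reflectionPerm hj h3
    rw [reflectionPerm_ng] at this
    exact (isPos_ng_iff b _).mp this h
  · exact fun hi => hi.reflectionPerm hj h1

omit [P.IsReduced] in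
lemma exists_int_coroot' (b : P.Base) {ξ : M} (h : ∀ j ∈ b.support, ∃ z : ℤ, P.coroot' j ξ = z) (i : ι) :
    ∃ z : ℤ, P.coroot' i ξ = z := by
  change ∃ z : ℤ, P.toLinearMap ξ (P.coroot i) = z
  refine Submodule.span_induction ?_ ⟨0, by simp⟩ ?_ ?_ (b.coroot_mem_span_int i)
  · rintro _ ⟨j, hj, rfl⟩; exact h j hj
  · rintro x y _ _ ⟨m, hm⟩ ⟨n, hn⟩; exact ⟨m + n, by simp [hm, hn]⟩
  · rintro c x _ ⟨m, hm⟩; exact ⟨c * m, by simp [hm]⟩

/-- A fundamental weight in a closed chamber is a fundamental weight of that chamber. -/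
lemma exists_fundWeight_eq {b b' : P.Base} {k' : b'.support} (h : fundWeight b' k' ∈ closedChamber b) :
    ∃ k : b.support, fundWeight b k = fundWeight b' k' := by
  classical
  set w := fundWeight b' k' with hw
  have hw0 : w ≠ 0 := fun h0 => by
    have := coroot'_fundWeight_self b' k'
    rw [← hw, h0, map_zero] at this
    exact zero_ne_one this
  obtain ⟨k, hk⟩ : ∃ k : b.support, P.coroot' k w ≠ 0 := by
    by_contra! h'
    exact hw0 (ext_base b fun j hj => by rw [h' ⟨j, hj⟩, map_zero])
  have hkpos : 0 < P.coroot' k w := lt_of_le_of_ne (h k k.2) (Ne.symm hk)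
  -- vanishing
  have hvan : ∀ i, P.coroot' i w = 0 → P.coroot' i (fundWeight b k) = 0 := by
    have key : ∀ i, b.IsPos i → P.coroot' i w = 0 → P.coroot' i (fundWeight b k) = 0 := by
      intro i hi h0
      refine le_antisymm ?_ (coroot'_nonneg (fundWeight_mem_closedChamber b k) hi)
      by_contra! hgt
      obtain ⟨n, hn⟩ := exists_nat_combo hi
      obtain ⟨j, hj, hn0, hj1⟩ := (coroot'_pos_iff (fundWeight_mem_closedChamber b k) hn).mp hgt
      rw [coroot'_fundWeight b k hj] at hj1
      split_ifs at hj1 with hjk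
      · subst hjk
        exact (((coroot'_pos_iff h hn).mpr ⟨_, hj, hn0, hkpos⟩).ne' h0)
      · exact lt_irrefl _ hj1
    intro i h0
    by_cases hi : b.IsPos i
    · exact key i hi h0
    · have := key _ ((isPos_ng_iff b i).mpr hi) (by rw [coroot'_ng, h0, neg_zero])
      rwa [coroot'_ng, neg_eq_zero] at this
  have hprop : fundWeight b k = P.coroot' k' (fundWeight b k) • w := by
    refine ext_base b' fun j hj => ?_
    rw [map_smul, hw, coroot'_fundWeight b' k' hj, smul_eq_mul]
    split_ifs with hjk
    · rw [hjk, mul_one]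
    · rw [mul_zero]
      exact hvan j (by rw [hw, coroot'_fundWeight b' k' hj, if_neg hjk])
  set c := P.coroot' k' (fundWeight b k) with hc
  have h1 : c * P.coroot' k w = 1 := by
    rw [← smul_eq_mul, ← map_smul, ← hprop, coroot'_fundWeight_self]
  obtain ⟨m, hm⟩ : ∃ z : ℤ, c = z := exists_int_coroot' b (fun j hj => by
    rw [coroot'_fundWeight b k hj]
    split_ifs
    · exact ⟨1, by simp⟩
    · exact ⟨0, by simp⟩) k'
  obtain ⟨m', hm'⟩ : ∃ z : ℤ, P.coroot' k w = z := exists_int_coroot' b' (fun j hj => by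
    rw [hw, coroot'_fundWeight b' k' hj]
    split_ifs
    · exact ⟨1, by simp⟩
    · exact ⟨0, by simp⟩) k
  rw [hm, hm'] at h1
  have hm'0 : 0 < m' := by rw [hm'] at hkpos; exact_mod_cast hkpos
  have h2 : m * m' = 1 := by exact_mod_cast h1
  rcases Int.eq_one_or_neg_one_of_mul_eq_one h2 with h3 | h3
  · refine ⟨k, ?_⟩
    rw [hprop, hm, h3, Int.cast_one, one_smul]
  · subst h3; omega

omit [Finite ι] [P.IsCrystallographic] [P.IsReduced] in
lemma fundWeight_mem_fundWeights (b : P.Base) (k : b.support) : fundWeight b k ∈ fundWeights P := ⟨b, k, rfl⟩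

lemma baseCorners_eq (b : P.Base) : baseCorners b = Set.range (fundWeight b) := by
  refine Set.Subset.antisymm ?_ ?_
  · rintro w ⟨⟨b', k', rfl⟩, hw⟩
    exact exists_fundWeight_eq hw
  · rintro _ ⟨k, rfl⟩
    exact ⟨fundWeight_mem_fundWeights b k, fundWeight_mem_closedChamber b k⟩

/-- `φ` maps fundamental weights to positive multiples of the corresponding coweights. -/
lemma pol_fundWeight (b : P.Base) (k : b.support) :
    pol P (fundWeight b k) = qlen P k • fundCoweight b k := by
  classical
  refine ext_weight (P := P) fun ξ => ?_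
  have h := DFunLike.congr_fun (show P.toLinearMap.flip (pol P (fundWeight b k)) =
      P.toLinearMap.flip (qlen P k • fundCoweight b k) from b.toWeightBasis.ext fun j => ?_) ξ
  · exact h
  rw [RootPairing.Base.toWeightBasis_apply, map_smul]
  change P.root' j (pol P _) = qlen P k • P.root' j (fundCoweight b k)
  rw [root'_pol]
  by_cases hjk : j = k
  · subst hjk; rw [coroot'_fundWeight_self, root'_fundCoweight_self, smul_eq_mul]
  · rw [coroot'_fundWeight_of_ne b k j hjk, root'_fundCoweight_of_ne b k j hjk, mul_zero, smul_zero]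

lemma fundCoweight_unique {b b' : P.Base} {k : b.support} {k' : b'.support}
    (h : fundWeight b k = fundWeight b' k') : fundCoweight b k = fundCoweight b' k' := by
  have e : qlen P k • fundCoweight b k = qlen P k' • fundCoweight b' k' := by
    rw [← pol_fundWeight, ← pol_fundWeight, h]
  have hval : ∀ j : b.support,
      P.root' j (fundCoweight b' k') = qlen P k / qlen P k' * P.root' j (fundCoweight b k) := fun j => by
    have := congrArg (P.root' j) e
    simp only [map_smul, smul_eq_mul] at this
    rw [div_mul_eq_mul_div, eq_div_iff (qlen_pos (P := P) _).ne']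
    linarith
  have hmem : fundWeight (P := P.flip) b'.flip k' ∈ closedChamber b.flip := fun j hj => by
    change 0 ≤ P.root' j (fundCoweight b' k')
    rw [hval ⟨j, hj⟩]
    refine mul_nonneg (div_nonneg (qlen_pos _).le (qlen_pos _).le) ?_
    exact fundWeight_mem_closedChamber b.flip k j hj
  obtain ⟨l, hl⟩ := exists_fundWeight_eq (P := P.flip) (b := b.flip) (b' := b'.flip) hmem
  change fundCoweight b l = fundCoweight b' k' at hl
  suffices l = k by rw [← hl, this]
  by_contra hlk
  have := hval l
  rw [← hl, root'_fundCoweight_self, root'_fundCoweight_of_ne b k l hlk, mul_zero] at this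
  exact one_ne_zero this

lemma corr_iff (b : P.Base) (k : b.support) (y : N) :
    Corr P (fundWeight b k) y ↔ y = fundCoweight b k := by
  constructor
  · rintro ⟨b', k', hw, rfl⟩
    exact fundCoweight_unique hw
  · rintro rfl
    exact ⟨b, k, rfl, rfl⟩

instance : Finite P.Base :=
  letI := Fintype.ofFinite ι
  Finite.of_injective (fun b => b.support) fun b b' h => by cases b; cases b'; simpa using h

omit [P.IsCrystallographic] [P.IsReduced] in
lemma module_finite_of_base (b : P.Base) : Module.Finite R M := Module.Finite.of_basis b.toWeightBasis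

end Groth.Agent.RootChLib
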