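import Groth.Agent.RootChLib.Facets

/-!
# Sums of roots attached to facets
-/

set_option autoImplicit false
set_option linter.unusedSectionVars false

noncomputable section

open Module RootCh

namespace Groth.Agent.RootChLib

universe u v w x

variable {ι : Type u} {R : Type v} {M : Type w} {N : Type x}
  [Field R] [LinearOrder R] [IsStrictOrderedRing R]
  [AddCommGroup M] [Module R M] [AddCommGroup N] [Module R N] [Finite ι]
  {P : RootPairing ι R M N} [P.IsRootSystem] [P.IsCrystallographic] [P.IsReduced]

/-- The sum of the roots of a set of indices. -/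
def rootSum (P : RootPairing ι R M N) (S : Set ι) : M := ∑ i ∈ (Set.toFinite S).toFinset, P.root i

lemma pair_rootSum (S : Set ι) (y : N) :
    P.toLinearMap (rootSum P S) y = ∑ i ∈ (Set.toFinite S).toFinset, P.root' i y := by
  simp [rootSum, map_sum, LinearMap.sum_apply]

lemma coroot'_rootSum_eq_zero {S : Set ι} {j : ι} (h : ∀ i ∈ S, P.reflectionPerm j i ∈ S) :
    P.coroot' j (rootSum P S) = 0 := by
  classical
  set σ := rootSum P S with hσ
  have hfix : P.reflection j σ = σ := by
    rw [hσ, rootSum, map_sum]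
    refine Finset.sum_nbij' (P.reflectionPerm j) (P.reflectionPerm j) ?_ ?_ ?_ ?_ ?_
    · simpa using h
    · simpa using h
    · intro i _; exact P.reflectionPerm_self j i
    · intro i _; exact P.reflectionPerm_self j i
    · intro i _; exact (P.root_reflectionPerm j i).symm
  rw [RootPairing.reflection_apply, sub_eq_self, smul_eq_zero] at hfix
  exact hfix.resolve_right (P.ne_zero j)

lemma reflection_eq_self {ξ : M} {j : ι} (h : P.coroot' j ξ = 0) : P.reflection j ξ = ξ := by
  rw [RootPairing.reflection_apply, h, zero_smul, sub_zero]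

lemma sgn_reflectionPerm {F : Facet P} {j : ι} (h : F.sgn j = 0) (i : ι) :
    F.sgn (P.reflectionPerm j i) = F.sgn i := by
  obtain ⟨η, hη⟩ := F.exists_sgnVec_eq
  rw [sgn_eq F hη, sgn_eq F hη, ← RootPairing.coroot'_reflection,
    reflection_eq_self (coroot'_eq_zero_of_sgn hη h)]

lemma coroot'_rootSum_pos {b : P.Base} {j : ι} (hj : j ∈ b.support) :
    P.coroot' j (rootSum P {i | b.IsPos i}) = 2 := by
  classical
  let := Fintype.ofFinite ι
  have hjpos : b.IsPos j := RootPairing.Base.isPos_of_mem_support hj
  have e : rootSum P {i | b.IsPos i} = P.root j + rootSum P ({i | b.IsPos i} \ {j}) := by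
    simp only [rootSum]
    rw [← Finset.add_sum_erase _ _ (show j ∈ (Set.toFinite {i | b.IsPos i}).toFinset by simpa using hjpos)]
    congr 1
    refine Finset.sum_congr ?_ fun _ _ => rfl
    ext i
    simp only [Finset.mem_erase, Set.Finite.mem_toFinset]
    exact ⟨fun h => ⟨h.2, h.1⟩, fun h => ⟨h.2, h.1⟩⟩
  rw [e, map_add, coroot'_rootSum_eq_zero, add_zero]
  · exact P.root_coroot_two j
  · rintro i ⟨hi, hne⟩
    refine ⟨hi.reflectionPerm hj hne, fun h => ?_⟩
    rw [Set.mem_singleton_iff] at h
    have hij : i = ng P j := (P.reflectionPerm j).injective (by rw [h, reflectionPerm_ng]; exact (ng_ng j).symm)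
    exact (isPos_ng_iff b j).mp (hij ▸ hi) hjpos

lemma pairing_le_zero {b : P.Base} {i j : ι} (hi : i ∈ b.support) (hj : j ∈ b.support) (hne : i ≠ j) :
    P.coroot' j (P.root i) ≤ 0 := by
  rw [RootPairing.root_coroot'_eq_pairing, ← P.algebraMap_pairingIn ℤ]
  simpa using b.pairingIn_le_zero_of_ne hne hi hj

/-- `γ F`, the sum of the roots positive on `F`. -/
def gam (F : Facet P) : M := rootSum P F.posPart

lemma rootSum_parab (F : Facet P) : rootSum P F.parab = gam F := by
  classical
  let := Fintype.ofFinite ι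
  simp only [gam, rootSum]
  have e : (Set.toFinite F.parab).toFinset =
      (Set.toFinite F.posPart).toFinset ∪ (Set.toFinite F.leviPart).toFinset := by
    ext i
    simp only [Set.Finite.mem_toFinset, Finset.mem_union, Facet.parab, Facet.posPart, Facet.leviPart,
      Set.mem_ofPred_eq]
    generalize F.sgn i = a
    revert a
    decide
  rw [e, Finset.sum_union, add_eq_left]
  · refine Finset.sum_involution (fun i _ => ng P i) ?_ ?_ ?_ ?_
    · intro i _; rw [root_ng, add_neg_cancel]
    · intro i _ _ h
      have := congrArg P.root h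
      rw [root_ng, neg_eq_iff_add_eq_zero, ← two_smul R] at this
      exact P.ne_zero i ((smul_eq_zero.mp this).resolve_left two_ne_zero)
    · intro i hi
      simpa [Facet.leviPart, sgn_ng] using hi
    · intro i _; exact ng_ng i
  · rw [Finset.disjoint_left]
    intro i h1 h2
    simp only [Set.Finite.mem_toFinset, Facet.posPart, Facet.leviPart, Set.mem_ofPred_eq] at h1 h2
    rw [h1] at h2
    exact absurd h2 (by decide)

lemma gam_mem_carrier (F : Facet P) : gam F ∈ F.carrier := by
  classical
  let := Fintype.ofFinite ι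
  obtain ⟨b, hb⟩ := cham_nonempty F
  obtain ⟨η, hη⟩ := F.exists_sgnVec_eq
  have hzero : ∀ j, F.sgn j = 0 → P.coroot' j (gam F) = 0 := fun j hj =>
    coroot'_rootSum_eq_zero fun i hi => by
      simp only [Facet.posPart, Set.mem_ofPred_eq] at hi ⊢
      rw [sgn_reflectionPerm hj, hi]
  have hpos : ∀ j ∈ b.support, F.sgn j ≠ 0 → 2 ≤ P.coroot' j (gam F) := by
    intro j hj hj0
    have e : rootSum P {i | b.IsPos i} = gam F + rootSum P {i | b.IsPos i ∧ F.sgn i = 0} := by
      simp only [gam, rootSum]
      rw [← Finset.sum_union]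
      · refine Finset.sum_congr ?_ fun _ _ => rfl
        ext i
        simp only [Set.Finite.mem_toFinset, Finset.mem_union, Facet.posPart, Set.mem_ofPred_eq]
        constructor
        · intro hi
          have := sgn_ne_neg_one_of_pos hb hi
          revert this
          generalize F.sgn i = a
          revert a
          simp only [hi, true_and]
          decide
        · rintro (hi | hi)
          · exact isPos_of_sgn_eq_one hb hi
          · exact hi.1
      · rw [Finset.disjoint_left]
        intro i h1 h2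
        simp only [Set.Finite.mem_toFinset, Facet.posPart, Set.mem_ofPred_eq] at h1 h2
        rw [h1] at h2
        exact absurd h2.2 (by decide)
    have h2 := coroot'_rootSum_pos (P := P) hj
    rw [e, map_add] at h2
    suffices P.coroot' j (rootSum P {i | b.IsPos i ∧ F.sgn i = 0}) ≤ 0 by linarith
    rw [rootSum, map_sum]
    refine Finset.sum_nonpos fun i hi => ?_
    obtain ⟨hipos, hi0⟩ := (Set.Finite.mem_toFinset _).mp hi
    obtain ⟨n, hn⟩ := exists_nat_combo hipos
    rw [hn, map_sum]
    refine Finset.sum_nonpos fun k hk => ?_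
    rw [map_nsmul, nsmul_eq_mul]
    rcases Nat.eq_zero_or_pos (n k) with h0 | h0
    · simp [h0]
    · refine mul_nonpos_of_nonneg_of_nonpos (Nat.cast_nonneg _) (pairing_le_zero hk hj fun h => ?_)
      subst h
      exact ((coroot'_pos_iff (hb hη) hn).mpr ⟨k, hk, h0.ne', coroot'_pos_of_carrier hb hη hk hj0⟩).ne'
        (coroot'_eq_zero_of_sgn hη hi0)
  refine mem_carrier_of hb (fun j hj => ?_) fun j hj => ?_
  · by_cases h : F.sgn j = 0
    · exact (hzero j h).ge
    · linarith [hpos j hj h]
  · exact ⟨fun h h0 => h.ne' (hzero j h0), fun h => by linarith [hpos j hj h]⟩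

lemma gam_mem_span (F : Facet P) : gam F ∈ Submodule.span R F.corners :=
  carrier_subset_span_corners F (gam_mem_carrier F)

lemma root'_fundCoweight_eq (b : P.Base) (k : b.support) (i : ι) :
    qlen P k * P.root' i (fundCoweight b k) = qlen P i * P.coroot' i (fundWeight b k) := by
  rw [← root'_pol, pol_fundWeight, map_smul, smul_eq_mul]

lemma mem_Psi_iff {F : Facet P} {b : P.Base} (hb : b ∈ F.cham) {k₀ : b.support} (hk₀ : F.sgn k₀ ≠ 0) (i : ι) :
    i ∈ F.Psi (fundWeight b k₀) ↔ P.root' i (fundCoweight b k₀) = 1 ∧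
      ∀ k : b.support, F.sgn k ≠ 0 → k ≠ k₀ → P.root' i (fundCoweight b k) = 0 := by
  simp only [Facet.Psi, Set.mem_ofPred_eq, corr_iff, forall_eq]
  refine and_congr_right fun _ => ⟨fun h k hk hne => ?_, fun h m hm hne x hx => ?_⟩
  · exact h _ (fundWeight_mem_corners hb hk) (fun he => hne (fundWeight_injective b he)) _
      ((corr_iff b k _).mpr rfl)
  · obtain ⟨k, hk, rfl⟩ := exists_of_mem_corners hb hm
    rw [(corr_iff b k x).mp hx]
    exact h k hk fun he => hne (he ▸ rfl)

lemma self_mem_Psi {F : Facet P} {b : P.Base} (hb : b ∈ F.cham) {k₀ : b.support} (hk₀ : F.sgn k₀ ≠ 0) :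
    (k₀ : ι) ∈ F.Psi (fundWeight b k₀) :=
  (mem_Psi_iff hb hk₀ _).mpr ⟨root'_fundCoweight_self b k₀, fun k _ hne =>
    root'_fundCoweight_of_ne b k k₀ (Ne.symm hne)⟩

lemma rootSum_Psi_mem_span {F : Facet P} {b : P.Base} (hb : b ∈ F.cham) {k₀ : b.support} (hk₀ : F.sgn k₀ ≠ 0) :
    rootSum P (F.Psi (fundWeight b k₀)) ∈ Submodule.span R F.corners := by
  refine (mem_span_corners_iff hb _).mpr fun j hj h0 => coroot'_rootSum_eq_zero fun i hi => ?_
  rw [mem_Psi_iff hb hk₀] at hi ⊢
  have key : ∀ k : b.support, F.sgn k ≠ 0 →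
      P.root' (P.reflectionPerm j i) (fundCoweight b k) = P.root' i (fundCoweight b k) := fun k hk => by
    rw [← root'_coreflection, RootPairing.coreflection_apply,
      show P.root' j (fundCoweight b k) = 0 from root'_fundCoweight_of_ne b k ⟨j, hj⟩ fun he => hk (by
        rw [← he]; exact h0), zero_smul, sub_zero]
  exact ⟨(key k₀ hk₀).trans hi.1, fun k hk hne => (key k hk).trans (hi.2 k hk hne)⟩

end Groth.Agent.RootChLib
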