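import Groth.Agent.RootChLib.Farkas
import Groth.Agent.RootChLib.Sums

/-!
# Complementary convex solids
-/

set_option autoImplicit false
set_option linter.unusedSectionVars false

noncomputable section

open Module RootCh

namespace Groth.Agent.RootChLib

universe u v w x

variable {ι : Type u} {R : Type v} {M : Type w} {N : Type x}
  [Field R] [LinearOrder R] [IsStrictOrderedRing R]
  [AddCommGroup M] [Module R M] [AddCommGroup N] [Module R N] [Finite ι]
  {P : RootPairing ι R M N} [P.IsRootSystem] [P.IsCrystallographic] [P.IsReduced]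
  {d : P.Base → N}

lemma adjacent_step (hd : IsCCS d) {b b' : P.Base} {j : ι} (hj : j ∈ b.support) (h1 : ¬ b'.IsPos j)
    (h2 : b'.IsPos (ng P j)) (h3 : ∀ i, i ≠ j → i ≠ ng P j → (b'.IsPos i ↔ b.IsPos i)) :
    ∃ c : R, 0 ≤ c ∧ d b' = d b + c • P.coroot j := by
  classical
  set k₀ : b.support := ⟨j, hj⟩
  have hjpos : b.IsPos j := RootPairing.Base.isPos_of_mem_support hj
  have hmem : ∀ k : b.support, fundWeight b k ∈ closedChamber b' ↔ k ≠ k₀ := by
    intro k
    constructor
    · intro h hk
      have := coroot'_nonpos h h1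
      rw [hk, show P.coroot' j (fundWeight b k₀) = 1 from coroot'_fundWeight_self b k₀] at this
      linarith [zero_lt_one (α := R)]
    · intro hk
      rw [mem_closedChamber_iff]
      intro i hi
      have hz : P.coroot' j (fundWeight b k) = 0 := coroot'_fundWeight_of_ne b k k₀ (Ne.symm hk)
      by_cases hi1 : i = j
      · rw [hi1, hz]
      by_cases hi2 : i = ng P j
      · rw [hi2, coroot'_ng, hz, neg_zero]
      exact coroot'_nonneg (fundWeight_mem_closedChamber b k) ((h3 i hi1 hi2).mp hi)
  have hinter : baseCorners b ∩ baseCorners b' = fundWeight b '' ({k₀}ᶜ : Set b.support) := by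
    ext w
    constructor
    · rintro ⟨hw, hw'⟩
      obtain ⟨k, rfl⟩ : w ∈ Set.range (fundWeight b) := baseCorners_eq b ▸ hw
      exact ⟨k, (hmem k).mp hw'.2, rfl⟩
    · rintro ⟨k, hk, rfl⟩
      exact ⟨⟨fundWeight_mem_fundWeights b k, fundWeight_mem_closedChamber b k⟩,
        fundWeight_mem_fundWeights b k, (hmem k).mpr hk⟩
  have hcard : (baseCorners b ∩ baseCorners b').ncard + 1 = b.support.card := by
    rw [hinter, Set.ncard_image_of_injective _ (fundWeight_injective b), Set.ncard_compl, Set.ncard_singleton,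
      Nat.card_eq_fintype_card, Fintype.card_coe]
    have : 0 < b.support.card := Finset.card_pos.mpr ⟨j, hj⟩
    omega
  have hle : P.root' j (d b) ≤ P.root' j (d b') := hd.wall_le b b' j hcard fun i => by
    constructor
    · rintro ⟨hi, hi'⟩
      by_contra hne
      by_cases hi2 : i = ng P j
      · exact (isPos_ng_iff b j).mp (hi2 ▸ hi) hjpos
      · exact hi' ((h3 i hne hi2).mpr hi)
    · rintro rfl
      exact ⟨hjpos, h1⟩
  have heq : d b' - d b = P.toLinearMap (fundWeight b k₀) (d b' - d b) • P.coroot j := by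
    refine ext_weight (P := P) fun ξ => ?_
    conv_lhs => rw [expand b ξ]
    rw [map_sum, LinearMap.sum_apply, Finset.sum_eq_single k₀ ?_ (by simp), map_smul, LinearMap.smul_apply,
      map_smul]
    · simp [mul_comm, k₀]
    · intro k _ hk
      have hb1 : fundWeight b k ∈ baseCorners b :=
        ⟨fundWeight_mem_fundWeights b k, fundWeight_mem_closedChamber b k⟩
      have hb2 : fundWeight b k ∈ baseCorners b' := ⟨fundWeight_mem_fundWeights b k, (hmem k).mpr hk⟩
      rw [map_smul, LinearMap.smul_apply, map_sub, hd.corner_eq b b' _ hb1 hb2, sub_self, smul_zero]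
  set c := P.toLinearMap (fundWeight b k₀) (d b' - d b)
  refine ⟨c, ?_, by rw [← heq]; abel⟩
  have h := congrArg (P.root' j) heq
  rw [map_sub, map_smul, show P.root' j (P.coroot j) = 2 from P.root_coroot_two j, smul_eq_mul] at h
  linarith

lemma pair_eq_of_isPos_eq (hd : IsCCS d) {b b' : P.Base} (h : ∀ i, b'.IsPos i ↔ b.IsPos i) {ξ : M} :
    P.toLinearMap ξ (d b) = P.toLinearMap ξ (d b') := by
  have hch : ∀ η, η ∈ closedChamber b' ↔ η ∈ closedChamber b := fun η => by
    simp only [mem_closedChamber_iff, h]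
  rw [expand b ξ]
  simp only [map_sum, map_smul, LinearMap.sum_apply, LinearMap.smul_apply]
  refine Finset.sum_congr rfl fun k _ => congrArg _ (hd.corner_eq b b' _ ?_ ?_)
  · exact ⟨fundWeight_mem_fundWeights b k, fundWeight_mem_closedChamber b k⟩
  · exact ⟨fundWeight_mem_fundWeights b k, (hch _).mpr (fundWeight_mem_closedChamber b k)⟩

/-- `d b` minimises every functional of the closed chamber of `b`. -/
lemma pair_le (hd : IsCCS d) {b : P.Base} {ξ : M} (hξ : ξ ∈ closedChamber b) (b' : P.Base) :
    P.toLinearMap ξ (d b) ≤ P.toLinearMap ξ (d b') := by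
  classical
  let := Fintype.ofFinite ι
  generalize hn : (Finset.univ.filter fun i => b'.IsPos i ∧ ¬ b.IsPos i).card = n
  induction n using Nat.strong_induction_on generalizing b' with
  | _ n ih =>
    by_cases h : ∀ k ∈ b'.support, b.IsPos k
    · exact (pair_eq_of_isPos_eq hd (isPos_of_forall_support b b' h)).le
    push Not at h
    obtain ⟨k, hk, hkb⟩ := h
    obtain ⟨b'', h1, h2, h3⟩ := exists_adjacent b' hk
    obtain ⟨c, hc, hdc⟩ := adjacent_step hd hk h1 h2 h3
    have hlt : (Finset.univ.filter fun i => b''.IsPos i ∧ ¬ b.IsPos i).card < n := by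
      rw [← hn]
      refine Finset.card_lt_card ((Finset.ssubset_iff_of_subset fun i hi => ?_).mpr ⟨k, ?_, ?_⟩)
      · simp only [Finset.mem_filter, Finset.mem_univ, true_and] at hi ⊢
        refine ⟨(h3 i ?_ ?_).mp hi.1, hi.2⟩
        · exact fun he => h1 (he ▸ hi.1)
        · exact fun he => hi.2 (he ▸ (isPos_ng_iff b k).mpr hkb)
      · simp [RootPairing.Base.isPos_of_mem_support hk, hkb]
      · simp [h1]
    refine (ih _ hlt b'' rfl).trans ?_
    rw [hdc, map_add, map_smul, smul_eq_mul]
    have : P.toLinearMap ξ (P.coroot k) ≤ 0 := coroot'_nonpos hξ hkb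
    nlinarith

lemma pair_eq (hd : IsCCS d) {b b' : P.Base} {ξ : M} (h : ξ ∈ closedChamber b) (h' : ξ ∈ closedChamber b') :
    P.toLinearMap ξ (d b) = P.toLinearMap ξ (d b') :=
  le_antisymm (pair_le hd h b') (pair_le hd h' b)

lemma mem_halfClosed_iff (hd : IsCCS d) (b : P.Base) (k : b.support) (x : N) :
    x ∈ halfClosed d (fundWeight b k) ↔ P.toLinearMap (fundWeight b k) (d b) ≤ P.toLinearMap (fundWeight b k) x :=
  ⟨fun h => h b ⟨fundWeight_mem_fundWeights b k, fundWeight_mem_closedChamber b k⟩, fun h c hc =>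
    (pair_le hd hc.2 b).trans h⟩

lemma mem_hyper_iff (hd : IsCCS d) {b : P.Base} {m : M} (hm : m ∈ baseCorners b) (x : N) :
    x ∈ hyper d m ↔ P.toLinearMap m x = P.toLinearMap m (d b) :=
  ⟨fun h => h b hm, fun h c hc => h.trans (pair_eq hd hm.2 hc.2)⟩

lemma mem_iInter_hyper_iff (hd : IsCCS d) {F : Facet P} {b : P.Base} (hb : b ∈ F.cham) (x : N) :
    x ∈ ⋂ m ∈ F.corners, hyper d m ↔
      ∀ σ ∈ Submodule.span R F.corners, P.toLinearMap σ x = P.toLinearMap σ (d b) := by
  simp only [Set.mem_iInter]
  constructor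
  · intro h σ hσ
    induction hσ using Submodule.span_induction with
    | mem m hm => exact (mem_hyper_iff hd (corners_subset_baseCorners hb hm) x).mp (h m hm)
    | zero => simp
    | add a c _ _ ha hc => rw [map_add, LinearMap.add_apply, LinearMap.add_apply, ha, hc]
    | smul r a _ ha => rw [map_smul, LinearMap.smul_apply, LinearMap.smul_apply, ha]
  · exact fun h m hm => (mem_hyper_iff hd (corners_subset_baseCorners hb hm) x).mpr (h m (Submodule.subset_span hm))

lemma pair_of_mem_hull_eq {s : Set N} {x : N} (hx : x ∈ convexHull R s) (ξ : M) (c : R)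
    (h : ∀ p ∈ s, P.toLinearMap ξ p = c) : P.toLinearMap ξ x = c :=
  convexHull_min (t := {y | P.toLinearMap ξ y = c}) h (convex_hyperplane (P.toLinearMap ξ).isLinear c) hx

lemma le_pair_of_mem_hull {s : Set N} {x : N} (hx : x ∈ convexHull R s) (ξ : M) (c : R)
    (h : ∀ p ∈ s, c ≤ P.toLinearMap ξ p) : c ≤ P.toLinearMap ξ x :=
  convexHull_min (t := {y | c ≤ P.toLinearMap ξ y}) h (convex_halfSpace_ge (P.toLinearMap ξ).isLinear c) hx

lemma dualSolid_subset_solid (F : Facet P) : dualSolid d F ⊆ solid d :=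
  convexHull_mono (Set.image_subset_range _ _)

/-- The dual solid is cut out by hyperplanes and half-spaces. -/
theorem dualSolid_eq (hd : IsCCS d) (F : Facet P) :
    dualSolid d F = (⋂ m ∈ F.corners, hyper d m) ∩ ⋂ m ∈ F.corners', halfClosed d m := by
  classical
  let := Fintype.ofFinite P.Base
  obtain ⟨b₀, hb₀⟩ := cham_nonempty F
  ext x
  constructor
  · intro hx
    refine ⟨(mem_iInter_hyper_iff hd hb₀ x).mpr fun σ hσ => ?_, ?_⟩
    · refine pair_of_mem_hull_eq hx σ _ ?_
      rintro _ ⟨c, hc, rfl⟩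
      induction hσ using Submodule.span_induction with
      | mem m hm => exact pair_eq hd (corners_subset_baseCorners hc hm).2 (corners_subset_baseCorners hb₀ hm).2
      | zero => simp
      | add a c _ _ ha hc => rw [map_add, LinearMap.add_apply, LinearMap.add_apply, ha, hc]
      | smul r a _ ha => rw [map_smul, LinearMap.smul_apply, LinearMap.smul_apply, ha]
    · simp only [Set.mem_iInter]
      intro m _ b hb
      refine le_pair_of_mem_hull hx m _ ?_
      rintro _ ⟨c, -, rfl⟩
      exact pair_le hd hb.2 c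
  · rintro ⟨hh, hc⟩
    by_contra hx
    obtain ⟨g, hg⟩ := exists_dual_lt_of_not_mem_convexHull (R := R) ((Set.toFinite F.cham).toFinset.image d) x
      (by simpa [dualSolid] using hx)
    obtain ⟨η, hη⟩ := F.exists_sgnVec_eq
    set ξ := P.toPerfPair.symm g
    have hξ : ∀ y, P.toLinearMap ξ y = g y := fun y => LinearMap.congr_fun (P.toPerfPair.apply_symm_apply g) y
    let := Fintype.ofFinite ι
    let T : R := 1 + ∑ i, |P.coroot' i ξ| / |P.coroot' i η|
    have hT : 0 < T := add_pos_of_pos_of_nonneg one_pos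
      (Finset.sum_nonneg fun i _ => div_nonneg (abs_nonneg _) (abs_nonneg _))
    let ξ' := ξ + T • η
    obtain ⟨b, hb⟩ := exists_mem_closedChamber P ξ'
    have hbF : b ∈ F.cham := by
      refine mem_cham_of_mem hη fun j hj => ?_
      by_contra hneg
      rw [not_le] at hneg
      have hlt : |P.coroot' j ξ| < T * |P.coroot' j η| := by
        rw [← div_lt_iff₀ (abs_pos.mpr hneg.ne)]
        calc |P.coroot' j ξ| / |P.coroot' j η| ≤ ∑ i, |P.coroot' i ξ| / |P.coroot' i η| :=
              Finset.single_le_sum (f := fun i => |P.coroot' i ξ| / |P.coroot' i η|)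
                (fun i _ => div_nonneg (abs_nonneg _) (abs_nonneg _)) (Finset.mem_univ j)
          _ < T := lt_one_add _
      rw [abs_of_neg hneg] at hlt
      have := hb j hj
      simp only [ξ', map_add, map_smul, smul_eq_mul] at this
      nlinarith [le_abs_self (P.coroot' j ξ)]
    have hlt : P.toLinearMap ξ' x < P.toLinearMap ξ' (d b) := by
      have h1 : P.toLinearMap η x = P.toLinearMap η (d b) :=
        (mem_iInter_hyper_iff hd hbF x).mp hh η (carrier_subset_span_corners F hη)
      simp only [ξ', map_add, map_smul, LinearMap.add_apply, LinearMap.smul_apply, smul_eq_mul, h1, hξ]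
      have := hg (d b) (Finset.mem_image_of_mem _ ((Set.Finite.mem_toFinset _).mpr hbF))
      linarith
    have hge : P.toLinearMap ξ' (d b) ≤ P.toLinearMap ξ' x := by
      rw [expand b ξ']
      simp only [map_sum, map_smul, LinearMap.sum_apply, LinearMap.smul_apply, smul_eq_mul]
      refine Finset.sum_le_sum fun k _ => mul_le_mul_of_nonneg_left ?_ (hb k k.2)
      rw [← mem_halfClosed_iff hd]
      simp only [Set.mem_iInter] at hc
      exact hc _ (Set.mem_biUnion hbF ⟨fundWeight_mem_fundWeights b k, fundWeight_mem_closedChamber b k⟩)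
    linarith

lemma cham_origin : (Facet.origin P).cham = Set.univ := by
  refine Set.eq_univ_of_forall fun b => mem_cham_of_mem (ofVec_mem (0 : M)) fun j _ => ?_
  simp

lemma solid_eq_dualSolid : solid d = dualSolid d (Facet.origin P) := by
  rw [solid, dualSolid, cham_origin, Set.image_univ]

lemma corners_origin : (Facet.origin P).corners = ∅ := by
  obtain ⟨b, hb⟩ := cham_nonempty (Facet.origin P)
  rw [corners_eq hb, Set.image_eq_empty, Finset.coe_eq_empty, Finset.eq_empty_iff_forall_notMem]
  intro k hk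
  refine mem_supp.mp hk ?_
  simp [Facet.origin, Facet.ofVec, sgnVec]

lemma mem_solid_iff (hd : IsCCS d) (x : N) :
    x ∈ solid d ↔ ∀ (b : P.Base), ∀ m ∈ baseCorners b, P.toLinearMap m (d b) ≤ P.toLinearMap m x := by
  rw [solid_eq_dualSolid, dualSolid_eq hd, corners_origin]
  simp only [Set.mem_empty_iff_false, Set.iInter_of_empty, Set.iInter_univ, Set.univ_inter,
    Facet.corners', cham_origin, Set.mem_univ, Set.iUnion_true, Set.mem_iInter, Set.mem_iUnion]
  exact ⟨fun h b m hm => h m ⟨b, hm⟩ b hm, fun h m _ b hb => h b m hb⟩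

lemma deg_eq (F : Facet P) (b : P.Base) : F.deg d b = P.toLinearMap (gam F) (d b) := by
  rw [← rootSum_parab, pair_rootSum]; rfl

lemma numInv_eq (F : Facet P) (m : M) (b : P.Base) :
    F.numInv d m b = P.toLinearMap (rootSum P (F.Psi m)) (d b) := by
  rw [pair_rootSum]; rfl

lemma pair_eq_of_mem_span (hd : IsCCS d) {F : Facet P} {b b' : P.Base} (hb : b ∈ F.cham) (hb' : b' ∈ F.cham)
    {σ : M} (hσ : σ ∈ Submodule.span R F.corners) : P.toLinearMap σ (d b) = P.toLinearMap σ (d b') := by
  refine (mem_iInter_hyper_iff hd hb' (d b)).mp ?_ σ hσ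
  exact (mem_iInter_hyper_iff hd hb (d b)).mpr fun _ _ => rfl

lemma deg_eq_deg (hd : IsCCS d) (F : Facet P) {b b' : P.Base} (hb : b ∈ F.cham) (hb' : b' ∈ F.cham) :
    F.deg d b = F.deg d b' := by
  rw [deg_eq, deg_eq]; exact pair_eq_of_mem_span hd hb hb' (gam_mem_span F)

/-- `0 ∈ solid` iff all corner values are non-positive. -/
lemma isSemistable_iff (hd : IsCCS d) :
    IsSemistable d ↔ ∀ (b : P.Base), ∀ m ∈ baseCorners b, P.toLinearMap m (d b) ≤ 0 := by
  simp [IsSemistable, mem_solid_iff hd]

lemma deg_nonpos_of_isSemistable (hd : IsCCS d) (h : IsSemistable d) (F : Facet P) {b : P.Base}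
    (hb : b ∈ F.cham) : F.deg d b ≤ 0 := by
  rw [deg_eq]
  have := le_pair_of_mem_hull (P := P) h (gam F) (P.toLinearMap (gam F) (d b)) (by
    rintro _ ⟨c, rfl⟩
    exact pair_le hd (hb (gam_mem_carrier F)) c)
  simpa using this

/-- The facet through a corner. -/
lemma exists_facet_corner (hd : IsCCS d) (b : P.Base) (k : b.support) :
    ∃ F : Facet P, b ∈ F.cham ∧ F.dim = 1 ∧
      ∃ c : R, 0 < c ∧ F.deg d b = c * P.toLinearMap (fundWeight b k) (d b) := by
  classical
  set F := facetOf b {k}
  have hb := mem_cham_facetOf b ({k} : Finset b.support)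
  have hk : F.sgn k ≠ 0 := (facetOf_sgn_ne_zero_iff b _ k).mpr (Finset.mem_singleton_self k)
  have hcor : F.corners = {fundWeight b k} := by rw [corners_facetOf]; simp
  refine ⟨F, hb, ?_, P.coroot' k (gam F), coroot'_pos_of_carrier hb (gam_mem_carrier F) k.2 hk, ?_⟩
  · rw [Facet.dim, span_carrier_eq, hcor]
    exact finrank_span_singleton fun h0 => by
      have := coroot'_fundWeight_self b k
      rw [h0, map_zero] at this
      exact zero_ne_one this
  · have hmem := gam_mem_span F
    rw [hcor, Submodule.mem_span_singleton] at hmem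
    obtain ⟨a, ha⟩ := hmem
    rw [deg_eq, ← ha, map_smul, map_smul, coroot'_fundWeight_self]
    simp

end Groth.Agent.RootChLib
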