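import Groth.Agent.RootChLib.Basic

/-!
# Facets: corners, parabolic sets
-/

set_option autoImplicit false
set_option linter.unusedSectionVars false

noncomputable section

open Module RootCh

namespace Groth.Agent.RootChLib

universe u v w x

variable {ι : Type u} {R : Type v} {M : Type w} {N : Type x}
  [Field R] [LinearOrder R] [IsStrictOrderedRing R]
  [AddCommGroup M] [Module R M] [AddCommGroup N] [Module R N] [Finite ι]
  {P : RootPairing ι R M N} [P.IsRootSystem] [P.IsCrystallographic] [P.IsReduced]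

lemma sgn_ng (F : Facet P) (i : ι) : F.sgn (ng P i) = - F.sgn i := by
  obtain ⟨ξ, hξ⟩ := F.exists_sgnVec_eq
  simp only [← hξ, sgnVec, coroot'_ng, Left.sign_neg]

lemma sgn_eq (F : Facet P) {ξ : M} (h : ξ ∈ F.carrier) (i : ι) : F.sgn i = SignType.sign (P.coroot' i ξ) :=
  (congrFun h i).symm

lemma ofVec_mem (ξ : M) : ξ ∈ (Facet.ofVec P ξ).carrier := rfl

lemma facet_ext_of_mem {F G : Facet P} {ξ : M} (hF : ξ ∈ F.carrier) (hG : ξ ∈ G.carrier) : F = G :=
  Facet.ext (hF.symm.trans hG)

lemma sgn_ne_neg_one_of_pos {F : Facet P} {b : P.Base} (hb : b ∈ F.cham) {i : ι} (hi : b.IsPos i) :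
    F.sgn i ≠ -1 := by
  obtain ⟨ξ, hξ⟩ := F.exists_sgnVec_eq
  rw [sgn_eq F hξ]
  intro h
  rw [sign_eq_neg_one_iff] at h
  exact absurd (coroot'_nonneg (hb hξ) hi) (not_le.mpr h)

lemma mem_cham_of_mem {F : Facet P} {b : P.Base} {ξ : M} (hξ : ξ ∈ F.carrier) (hb : ξ ∈ closedChamber b) :
    b ∈ F.cham := by
  intro η hη j hj
  have h := (sgn_eq F hη j).symm.trans (sgn_eq F hξ j)
  by_contra hneg
  rw [sign_neg (not_le.mp hneg), eq_comm, sign_eq_neg_one_iff] at h
  exact absurd (hb j hj) (not_le.mpr h)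

lemma mem_cham_of_forall {F : Facet P} {b : P.Base} (h : ∀ j ∈ b.support, F.sgn j ≠ -1) : b ∈ F.cham := by
  intro ξ hξ j hj
  by_contra hneg
  exact h j hj (by rw [sgn_eq F hξ, sign_neg (not_le.mp hneg)])

lemma cham_nonempty (F : Facet P) : F.cham.Nonempty := by
  obtain ⟨ξ, hξ⟩ := F.exists_sgnVec_eq
  obtain ⟨b, hb⟩ := exists_mem_closedChamber P ξ
  exact ⟨b, mem_cham_of_mem hξ hb⟩

lemma isPos_of_sgn_eq_one {F : Facet P} {b : P.Base} (hb : b ∈ F.cham) {i : ι} (hi : F.sgn i = 1) :
    b.IsPos i := by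
  by_contra h
  have := sgn_ne_neg_one_of_pos hb ((isPos_ng_iff b i).mpr h)
  rw [sgn_ng, hi] at this
  exact this rfl

lemma mem_closure_iff {F : Facet P} {b : P.Base} (hb : b ∈ F.cham) (ξ : M) :
    ξ ∈ F.closure ↔ ξ ∈ closedChamber b ∧ ∀ j ∈ b.support, F.sgn j = 0 → P.coroot' j ξ = 0 := by
  constructor
  · intro h
    refine ⟨fun j hj => ?_, fun j hj h0 => ?_⟩
    · by_contra hneg
      have hs : sgnVec P ξ j = -1 := sign_neg (not_le.mp hneg)
      rcases h j with h' | h'
      · rw [hs] at h'; exact absurd h' (by decide)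
      · exact sgn_ne_neg_one_of_pos hb (RootPairing.Base.isPos_of_mem_support hj) (h'.symm.trans hs)
    · rcases h j with h' | h'
      · exact sign_eq_zero_iff.mp h'
      · exact sign_eq_zero_iff.mp (h'.trans h0)
  · rintro ⟨hξ, hz⟩
    obtain ⟨η, hη⟩ := F.exists_sgnVec_eq
    have key : ∀ i, b.IsPos i → sgnVec P ξ i = 0 ∨ sgnVec P ξ i = F.sgn i := by
      intro i hi
      rcases eq_or_lt_of_le (coroot'_nonneg hξ hi) with h0 | hpos
      · exact Or.inl (sign_eq_zero_iff.mpr h0.symm)
      · refine Or.inr ?_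
        obtain ⟨n, hn⟩ := exists_nat_combo hi
        obtain ⟨j, hj, hn0, hjpos⟩ := (coroot'_pos_iff hξ hn).mp hpos
        have hjF : 0 < P.coroot' j η := by
          refine lt_of_le_of_ne (hb hη j hj) fun h0 => ?_
          exact hjpos.ne' (hz j hj (by rw [sgn_eq F hη, ← h0, sign_zero]))
        have := (coroot'_pos_iff (hb hη) hn).mpr ⟨j, hj, hn0, hjF⟩
        rw [sgn_eq F hη, sign_pos this]
        exact sign_pos hpos
    intro i
    by_cases hi : b.IsPos i
    · exact key i hi
    · have := key _ ((isPos_ng_iff b i).mpr hi)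
      simpa [sgnVec, coroot'_ng, Left.sign_neg, sgn_ng] using this

lemma mem_carrier_of {F : Facet P} {b : P.Base} (hb : b ∈ F.cham) {ξ : M} (hξ : ξ ∈ closedChamber b)
    (h : ∀ j ∈ b.support, 0 < P.coroot' j ξ ↔ F.sgn j ≠ 0) : ξ ∈ F.carrier := by
  obtain ⟨η, hη⟩ := F.exists_sgnVec_eq
  refine (sgnVec_eq_of_support hξ (hb hη) fun j hj => ?_).trans hη
  rw [h j hj, sgn_eq F hη, ne_eq, sign_eq_zero_iff]
  exact ⟨fun h' => lt_of_le_of_ne (hb hη j hj) (Ne.symm h'), fun h' => h'.ne'⟩

lemma coroot'_pos_of_carrier {F : Facet P} {b : P.Base} (hb : b ∈ F.cham) {ξ : M} (hξ : ξ ∈ F.carrier)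
    {j : ι} (hj : j ∈ b.support) (h : F.sgn j ≠ 0) : 0 < P.coroot' j ξ :=
  lt_of_le_of_ne (hb hξ j hj) fun h0 => h (by rw [sgn_eq F hξ, ← h0, sign_zero])

lemma coroot'_eq_zero_of_sgn {F : Facet P} {ξ : M} (hξ : ξ ∈ F.carrier) {j : ι} (h : F.sgn j = 0) :
    P.coroot' j ξ = 0 :=
  sign_eq_zero_iff.mp ((sgn_eq F hξ j).symm.trans h)

/-- The simple indices of `b` non-vanishing on `F`. -/
def supp (F : Facet P) (b : P.Base) : Finset b.support :=
  Finset.univ.filter fun k : b.support => F.sgn k ≠ 0

lemma mem_supp {F : Facet P} {b : P.Base} {k : b.support} : k ∈ supp F b ↔ F.sgn k ≠ 0 := by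
  simp [supp]

lemma corners_eq {F : Facet P} {b : P.Base} (hb : b ∈ F.cham) :
    F.corners = fundWeight b '' (supp F b : Set b.support) := by
  classical
  ext w
  constructor
  · rintro ⟨hw, hcl⟩
    obtain ⟨hcl, hz⟩ := (mem_closure_iff hb w).mp hcl
    obtain ⟨k, rfl⟩ : w ∈ Set.range (fundWeight b) := baseCorners_eq b ▸ ⟨hw, hcl⟩
    refine ⟨k, mem_supp.mpr fun h0 => ?_, rfl⟩
    have := hz k k.2 h0
    rw [coroot'_fundWeight_self] at this
    exact one_ne_zero this
  · rintro ⟨k, hk, rfl⟩
    refine ⟨fundWeight_mem_fundWeights b k, (mem_closure_iff hb _).mpr ⟨fundWeight_mem_closedChamber b k, ?_⟩⟩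
    intro j hj h0
    rw [coroot'_fundWeight b k hj, if_neg]
    exact fun h => mem_supp.mp (Finset.mem_coe.mp hk) (h ▸ h0)

lemma corners_subset_baseCorners {F : Facet P} {b : P.Base} (hb : b ∈ F.cham) : F.corners ⊆ baseCorners b := by
  rw [corners_eq hb, baseCorners_eq b]
  exact Set.image_subset_range _ _

lemma fundWeight_mem_corners {F : Facet P} {b : P.Base} (hb : b ∈ F.cham) {k : b.support} (hk : F.sgn k ≠ 0) :
    fundWeight b k ∈ F.corners := by
  rw [corners_eq hb]; exact ⟨k, mem_supp.mpr hk, rfl⟩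

lemma exists_of_mem_corners {F : Facet P} {b : P.Base} (hb : b ∈ F.cham) {m : M} (hm : m ∈ F.corners) :
    ∃ k : b.support, F.sgn k ≠ 0 ∧ fundWeight b k = m := by
  rw [corners_eq hb] at hm
  obtain ⟨k, hk, rfl⟩ := hm
  exact ⟨k, mem_supp.mp hk, rfl⟩

lemma mem_span_corners_iff {F : Facet P} {b : P.Base} (hb : b ∈ F.cham) (σ : M) :
    σ ∈ Submodule.span R F.corners ↔ ∀ j ∈ b.support, F.sgn j = 0 → P.coroot' j σ = 0 := by
  classical
  constructor
  · intro h j hj h0
    induction h using Submodule.span_induction with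
    | mem m hm =>
      obtain ⟨k, hk, rfl⟩ := exists_of_mem_corners hb hm
      rw [coroot'_fundWeight b k hj, if_neg]
      exact fun h => hk (h ▸ h0)
    | zero => simp
    | add a c _ _ ha hc => rw [map_add, ha, hc, add_zero]
    | smul r a _ ha => rw [map_smul, ha, smul_zero]
  · intro h
    rw [expand b σ]
    refine Submodule.sum_mem _ fun k _ => ?_
    by_cases hk : F.sgn k = 0
    · rw [h k k.2 hk, zero_smul]; exact Submodule.zero_mem _
    · exact Submodule.smul_mem _ _ (Submodule.subset_span (fundWeight_mem_corners hb hk))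

/-- The facet of a set of simple indices. -/
def facetOf (b : P.Base) (J : Finset b.support) : Facet P :=
  Facet.ofVec P (∑ k ∈ J, fundWeight b k)

lemma coroot'_sum_fundWeight (b : P.Base) [DecidableEq ι] (J : Finset b.support) (k : b.support) :
    P.coroot' k (∑ l ∈ J, fundWeight b l) = if k ∈ J then 1 else 0 := by
  classical
  rw [map_sum]
  split_ifs with h
  · rw [Finset.sum_eq_single k (fun l _ hl => coroot'_fundWeight_of_ne b l k (Ne.symm hl))
      (fun h' => absurd h h'), coroot'_fundWeight_self]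
  · exact Finset.sum_eq_zero fun l hl => coroot'_fundWeight_of_ne b l k fun he => h (he ▸ hl)

lemma sum_fundWeight_mem_closedChamber (b : P.Base) (J : Finset b.support) :
    ∑ k ∈ J, fundWeight b k ∈ closedChamber b := by
  classical
  intro j hj
  rw [show j = ((⟨j, hj⟩ : b.support) : ι) from rfl, coroot'_sum_fundWeight]
  split_ifs <;> simp

lemma mem_cham_facetOf (b : P.Base) (J : Finset b.support) : b ∈ (facetOf b J).cham :=
  mem_cham_of_mem (ofVec_mem _) (sum_fundWeight_mem_closedChamber b J)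

lemma facetOf_sgn_ne_zero_iff (b : P.Base) (J : Finset b.support) (k : b.support) :
    (facetOf b J).sgn k ≠ 0 ↔ k ∈ J := by
  classical
  change SignType.sign (P.coroot' k (∑ l ∈ J, fundWeight b l)) ≠ 0 ↔ k ∈ J
  rw [coroot'_sum_fundWeight, sign_ne_zero]
  split_ifs with h <;> simp [h]

lemma corners_facetOf (b : P.Base) (J : Finset b.support) :
    (facetOf b J).corners = fundWeight b '' (J : Set b.support) := by
  rw [corners_eq (mem_cham_facetOf b J)]
  congr 1
  ext k
  simp [mem_supp, facetOf_sgn_ne_zero_iff]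

lemma facetOf_supp {F : Facet P} {b : P.Base} (hb : b ∈ F.cham) : facetOf b (supp F b) = F := by
  classical
  refine facet_ext_of_mem (ofVec_mem _) (mem_carrier_of hb (sum_fundWeight_mem_closedChamber b _) fun j hj => ?_)
  rw [show j = ((⟨j, hj⟩ : b.support) : ι) from rfl, coroot'_sum_fundWeight]
  split_ifs with h
  · exact iff_of_true one_pos (mem_supp.mp h)
  · exact iff_of_false (lt_irrefl _) (fun h' => h (mem_supp.mpr h'))

lemma facet_eq_of_corners_eq {F G : Facet P} (h : F.corners = G.corners) : F = G := by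
  obtain ⟨b, hb⟩ := cham_nonempty F
  obtain ⟨c, hc⟩ := cham_nonempty G
  have e : ∑ k ∈ supp F b, fundWeight b k = ∑ k ∈ supp G c, fundWeight c k := by
    classical
    rw [← Finset.sum_image (f := fun m : M => m) (g := fundWeight b) ((fundWeight_injective b).injOn),
      ← Finset.sum_image (f := fun m : M => m) (g := fundWeight c) ((fundWeight_injective c).injOn)]
    refine Finset.sum_congr (Finset.coe_injective ?_) fun _ _ => rfl
    rw [Finset.coe_image, Finset.coe_image, ← corners_eq hb, ← corners_eq hc, h]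
  rw [← facetOf_supp hb, ← facetOf_supp hc, facetOf, facetOf, e]

lemma le_iff_closure {F G : Facet P} {ξ : M} (hξ : ξ ∈ G.carrier) : F ≤ G ↔ ξ ∈ F.closure := by
  refine forall_congr' fun i => ?_
  rw [congrFun hξ i]

lemma facetOf_le (b : P.Base) {F : Facet P} (hb : b ∈ F.cham) {J : Finset b.support} :
    F ≤ facetOf b J ↔ ∀ k ∈ J, F.sgn k ≠ 0 := by
  classical
  rw [le_iff_closure (show (∑ l ∈ J, fundWeight b l) ∈ (facetOf b J).carrier from ofVec_mem _), mem_closure_iff hb]
  constructor
  · rintro ⟨-, h⟩ k hk h0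
    have := h k k.2 h0
    rw [coroot'_sum_fundWeight, if_pos hk] at this
    exact one_ne_zero this
  · intro h
    refine ⟨sum_fundWeight_mem_closedChamber b J, fun j hj h0 => ?_⟩
    rw [show j = ((⟨j, hj⟩ : b.support) : ι) from rfl, coroot'_sum_fundWeight, if_neg]
    exact fun hk => h _ hk h0

lemma carrier_subset_span_corners (F : Facet P) : F.carrier ⊆ Submodule.span R F.corners := by
  obtain ⟨b, hb⟩ := cham_nonempty F
  exact fun ξ hξ => (mem_span_corners_iff hb ξ).mpr fun j _ h0 => coroot'_eq_zero_of_sgn hξ h0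

lemma span_carrier_eq (F : Facet P) : Submodule.span R F.carrier = Submodule.span R F.corners := by
  classical
  refine le_antisymm (Submodule.span_le.mpr (carrier_subset_span_corners F)) (Submodule.span_le.mpr ?_)
  obtain ⟨b, hb⟩ := cham_nonempty F
  intro m hm
  obtain ⟨k, hk, rfl⟩ := exists_of_mem_corners hb hm
  set η := ∑ l ∈ supp F b, fundWeight b l with hη_def
  have hη : η ∈ F.carrier := by
    have := ofVec_mem (P := P) η
    rwa [show Facet.ofVec P η = F from facetOf_supp hb] at this
  have hη' : η + fundWeight b k ∈ F.carrier := by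
    refine mem_carrier_of hb (fun j hj => ?_) fun j hj => ?_
    · rw [map_add]
      exact add_nonneg (hb hη j hj) (fundWeight_mem_closedChamber b k j hj)
    · rw [map_add, coroot'_fundWeight b k hj]
      refine ⟨fun h h0 => ?_, fun h => add_pos_of_pos_of_nonneg (coroot'_pos_of_carrier hb hη hj h) ?_⟩
      · have hjk : j ≠ (k : ι) := fun h' => hk (by rw [← h']; exact h0)
        rw [coroot'_eq_zero_of_sgn hη h0, if_neg hjk, zero_add] at h
        exact lt_irrefl _ h
      · split_ifs <;> simp
  have := Submodule.sub_mem _ (Submodule.subset_span (R := R) hη') (Submodule.subset_span hη)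
  simpa using this

lemma pol_mem_dualCarrier {F : Facet P} {ξ : M} : pol P ξ ∈ F.dualCarrier ↔ ξ ∈ F.carrier := by
  change cosgnVec P (pol P ξ) = F.sgn ↔ sgnVec P ξ = F.sgn
  rw [cosgnVec_pol]

lemma dualCarrier_eq (F : Facet P) : F.dualCarrier = pol P '' F.carrier := by
  ext y
  refine ⟨fun hy => ⟨(pol P).symm y, ?_, by simp⟩, ?_⟩
  · rw [← pol_mem_dualCarrier]; simpa using hy
  · rintro ⟨ξ, hξ, rfl⟩; exact pol_mem_dualCarrier.mpr hξ

lemma mem_span_dualCarrier_iff (F : Facet P) (y : N) :
    y ∈ Submodule.span R F.dualCarrier ↔ (pol P).symm y ∈ Submodule.span R F.corners := by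
  rw [dualCarrier_eq, ← LinearEquiv.coe_coe, Submodule.span_image, span_carrier_eq,
    Submodule.mem_map_equiv]

/-- The facet of the dual root system. -/
def dualFacet (F : Facet P) : Facet P.flip where
  sgn := F.sgn
  exists_sgnVec_eq := by
    obtain ⟨ξ, hξ⟩ := F.exists_sgnVec_eq
    exact ⟨pol P ξ, (cosgnVec_pol ξ).trans hξ⟩

lemma dualCorners_eq {F : Facet P} {b : P.Base} (hb : b ∈ F.cham) :
    F.dualCorners = fundCoweight b '' (supp F b : Set b.support) := by
  have hb' : b.flip ∈ (dualFacet F).cham :=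
    mem_cham_of_forall fun j hj => sgn_ne_neg_one_of_pos hb (RootPairing.Base.isPos_of_mem_support hj)
  exact corners_eq (P := P.flip) hb'

/-! ### The parabolic set -/

lemma parab_le_iff (F G : Facet P) : F ≤ G ↔ F.parab ⊆ G.parab := by
  constructor
  · intro h i hi
    rcases h i with h' | h'
    · simp [Facet.parab, h']
    · simpa [Facet.parab, h'] using hi
  · intro h i
    have h1 := @h i
    have h2 := @h (ng P i)
    simp only [Facet.parab, Set.mem_ofPred_eq, sgn_ng] at h1 h2
    revert h1 h2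
    generalize F.sgn i = a, G.sgn i = c
    revert a c
    decide

lemma parab_injective {F G : Facet P} (h : F.parab = G.parab) : F = G :=
  le_antisymm ((parab_le_iff F G).mpr h.subset) ((parab_le_iff G F).mpr h.symm.subset)

lemma mem_parab_iff {F : Facet P} {ξ : M} (hξ : ξ ∈ F.carrier) (i : ι) :
    i ∈ F.parab ↔ 0 ≤ P.coroot' i ξ := by
  simp only [Facet.parab, Set.mem_ofPred_eq, sgn_eq F hξ, ne_eq, sign_eq_neg_one_iff, not_lt]

lemma isParabolicSubset_parab (F : Facet P) : IsParabolicSubset P F.parab := by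
  obtain ⟨ξ, hξ⟩ := F.exists_sgnVec_eq
  refine ⟨fun i j k hi hj hk => ?_, fun i => ?_⟩
  · simp only [mem_parab_iff hξ] at hi hj ⊢
    have h1 := root'_pol (P := P) k ξ
    have h2 : P.root' k (pol P ξ) = P.root' i (pol P ξ) + P.root' j (pol P ξ) := by
      change P.toLinearMap (P.root k) _ = P.toLinearMap (P.root i) _ + P.toLinearMap (P.root j) _
      rw [hk, map_add, LinearMap.add_apply]
    rw [h1, root'_pol, root'_pol] at h2
    nlinarith [qlen_pos (P := P) k, mul_nonneg (qlen_pos (P := P) i).le hi,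
      mul_nonneg (qlen_pos (P := P) j).le hj]
  · simp only [mem_parab_iff hξ]
    rw [show P.reflectionPerm i i = ng P i from rfl, coroot'_ng]
    rcases le_total 0 (P.coroot' i ξ) with h | h
    · exact Or.inl h
    · exact Or.inr (neg_nonneg.mpr h)

lemma corners_eq_parab (F : Facet P) :
    F.corners = {m : M | m ∈ fundWeights P ∧ ∀ y : N, Corr P m y → ∀ i ∈ F.parab, 0 ≤ P.root' i y} := by
  ext m
  refine and_congr_right fun hm => ?_
  obtain ⟨b, k, rfl⟩ := hm
  have hsgn : ∀ i, 0 ≤ P.root' i (fundCoweight b k) ↔ 0 ≤ P.coroot' i (fundWeight b k) := fun i => by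
    have := root'_pol (P := P) i (fundWeight b k)
    rw [pol_fundWeight, map_smul, smul_eq_mul] at this
    rw [← mul_nonneg_iff_of_pos_left (qlen_pos (P := P) k), this, mul_nonneg_iff_of_pos_left (qlen_pos i)]
  simp only [corr_iff, forall_eq, hsgn]
  constructor
  · intro h i hi
    rcases h i with h' | h'
    · exact (sign_eq_zero_iff.mp h').ge
    · by_contra hneg
      exact hi (h'.symm.trans (sign_neg (not_le.mp hneg)))
  · intro h i
    simp only [sgnVec]
    rcases lt_trichotomy (P.coroot' i (fundWeight b k)) 0 with hlt | heq | hgt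
    · right
      rw [sign_neg hlt]
      by_contra hne
      exact absurd (h i (Ne.symm hne)) (not_le.mpr hlt)
    · left; rw [heq, sign_zero]
    · right
      rw [sign_pos hgt]
      by_contra hne
      have := h (ng P i) (by
        simp only [Facet.parab, Set.mem_ofPred_eq, sgn_ng, ne_eq, neg_inj]
        exact Ne.symm hne)
      rw [coroot'_ng] at this
      linarith

lemma exists_root_eq_neg_add {i k : ι} {j : ι} (h : P.root k = P.root i + P.root j) :
    P.root (ng P i) = P.root (ng P k) + P.root j := by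
  rw [root_ng, root_ng, h]; abel

/-- Every parabolic set is the parabolic set of a facet. -/
lemma exists_facet_parab_eq {S : Set ι} (hS : IsParabolicSubset P S) : ∃ F : Facet P, F.parab = S := by
  classical
  let := Fintype.ofFinite ι
  let := Fintype.ofFinite P.Base
  obtain ⟨b₁⟩ := P.nonempty_base
  obtain ⟨b, -, hmax⟩ := Finset.exists_max_image (Finset.univ : Finset P.Base)
    (fun c => (Finset.univ.filter fun i => c.IsPos i ∧ i ∈ S).card) ⟨b₁, Finset.mem_univ _⟩
  have hsimple : ∀ j ∈ b.support, j ∈ S := by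
    intro j hj
    by_contra hjS
    obtain ⟨b', hj1, hj2, hsame⟩ := exists_adjacent b hj
    have hngS : ng P j ∈ S := (hS.2 j).resolve_left hjS
    have : (Finset.univ.filter fun i => b.IsPos i ∧ i ∈ S).card <
        (Finset.univ.filter fun i => b'.IsPos i ∧ i ∈ S).card := by
      refine Finset.card_lt_card ((Finset.ssubset_iff_of_subset fun i hi => ?_).mpr ⟨ng P j, by simp [hj2, hngS], ?_⟩)
      · simp only [Finset.mem_filter, Finset.mem_univ, true_and] at hi ⊢
        refine ⟨(hsame i ?_ ?_).mpr hi.1, hi.2⟩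
        · exact fun h => hjS (h ▸ hi.2)
        · exact fun h => (isPos_ng_iff b j).mp (h ▸ hi.1) (RootPairing.Base.isPos_of_mem_support hj)
      · simp only [Finset.mem_filter, Finset.mem_univ, true_and]
        exact fun h => (isPos_ng_iff b j).mp h.1 (RootPairing.Base.isPos_of_mem_support hj)
    exact absurd (hmax b' (Finset.mem_univ _)) (not_le.mpr this)
  have hposS : ∀ i, b.IsPos i → i ∈ S := fun i hi =>
    hi.induction_on_add hsimple fun i j k hk hp hj => hS.1 i j k hp (hsimple j hj) hk
  let J : Finset b.support := Finset.univ.filter fun k : b.support => ng P k ∉ S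
  let η := ∑ k ∈ J, fundWeight b k
  have hη : η ∈ closedChamber b := sum_fundWeight_mem_closedChamber b J
  have hJ : ∀ j (hj : j ∈ b.support), (P.coroot' j η = 0 ↔ ng P j ∈ S) := fun j hj => by
    rw [show j = ((⟨j, hj⟩ : b.support) : ι) from rfl, coroot'_sum_fundWeight]
    split_ifs with h <;> simp_all [J]
  -- for positive roots
  have key : ∀ i, b.IsPos i → (P.coroot' i η = 0 ↔ ng P i ∈ S) := by
    intro i hi
    suffices b.IsPos i ∧ (P.coroot' i η = 0 ↔ ng P i ∈ S) from this.2
    refine RootPairing.Base.IsPos.induction_on_add (p := fun i => b.IsPos i ∧ (P.coroot' i η = 0 ↔ ng P i ∈ S))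
      hi (fun j hj => ⟨RootPairing.Base.isPos_of_mem_support hj, hJ j hj⟩) fun i j k hk hp hj => ?_
    obtain ⟨hi, hiff⟩ := hp
    have hkpos := hi.add (RootPairing.Base.isPos_of_mem_support hj) hk
    refine ⟨hkpos, ?_⟩
    have e : qlen P k * P.coroot' k η = qlen P i * P.coroot' i η + qlen P j * P.coroot' j η := by
      simp only [← root'_pol]
      change P.toLinearMap (P.root k) _ = P.toLinearMap (P.root i) _ + P.toLinearMap (P.root j) _
      rw [hk, map_add, LinearMap.add_apply]
    have h0 : P.coroot' k η = 0 ↔ P.coroot' i η = 0 ∧ P.coroot' j η = 0 := by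
      rw [← mul_eq_zero_iff_left (qlen_pos (P := P) k).ne', e, add_eq_zero_iff_of_nonneg
        (mul_nonneg (qlen_pos i).le (coroot'_nonneg hη hi)) (mul_nonneg (qlen_pos j).le (hη j hj)),
        mul_eq_zero_iff_left (qlen_pos (P := P) i).ne', mul_eq_zero_iff_left (qlen_pos (P := P) j).ne']
    rw [h0, hiff, hJ j hj]
    constructor
    · rintro ⟨h1, h2⟩
      exact hS.1 _ _ _ h1 h2 (by rw [root_ng, root_ng, root_ng, hk]; abel)
    · intro h
      exact ⟨hS.1 (ng P k) j (ng P i) h (hsimple j hj) (by rw [root_ng, root_ng, hk]; abel),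
        hS.1 (ng P k) i (ng P j) h (hposS i hi) (by rw [root_ng, root_ng, hk]; abel)⟩
  refine ⟨facetOf b J, Set.ext fun i => ?_⟩
  rw [mem_parab_iff (show η ∈ (facetOf b J).carrier from ofVec_mem η)]
  by_cases hi : b.IsPos i
  · exact iff_of_true (coroot'_nonneg hη hi) (hposS i hi)
  · have h1 := key _ ((isPos_ng_iff b i).mpr hi)
    rw [ng_ng, coroot'_ng, neg_eq_zero] at h1
    rw [← h1]
    exact ⟨fun h => le_antisymm (coroot'_nonpos hη hi) h, fun h => h.ge⟩

end Groth.Agent.RootChLib
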