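import Mathlib

/-!
# Farkas' lemma and separation for convex hulls of finite sets over an ordered field
-/

set_option autoImplicit false

namespace Groth.Agent.RootChLib

universe v w x

variable {R : Type v} [Field R] [LinearOrder R] [IsStrictOrderedRing R]
variable {V : Type w} [AddCommGroup V] [Module R V]

/-- Farkas: a vector outside the cone generated by finitely many vectors is separated by a functional. -/
theorem exists_dual_of_not_mem_cone {α : Type x} (s : Finset α) : ∀ (a : α → V) (v : V),
    (¬ ∃ c : α → R, (∀ i ∈ s, 0 ≤ c i) ∧ ∑ i ∈ s, c i • a i = v) →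
      ∃ f : V →ₗ[R] R, (∀ i ∈ s, 0 ≤ f (a i)) ∧ f v < 0 := by
  classical
  induction s using Finset.induction with
  | empty =>
    intro a v h
    have hv : v ≠ 0 := fun h0 => h ⟨0, by simp, by simp [h0]⟩
    obtain ⟨f, hf⟩ := Module.Projective.exists_dual_ne_zero R hv
    rcases lt_or_gt_of_ne hf with h1 | h1
    · exact ⟨f, by simp, h1⟩
    · exact ⟨-f, by simp, by simpa using h1⟩
  | insert k s hk ih =>
    intro a v h
    obtain ⟨f, hf, hfv⟩ := ih a v fun ⟨c, hc, hcv⟩ =>
      h ⟨Function.update c k 0, fun i hi => by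
          rcases Finset.mem_insert.mp hi with rfl | hi'
          · simp
          · rw [Function.update_of_ne (ne_of_mem_of_not_mem hi' hk)]; exact hc i hi', by
          rw [Finset.sum_insert hk, Function.update_self, zero_smul, zero_add, ← hcv]
          exact Finset.sum_congr rfl fun i hi => by rw [Function.update_of_ne (ne_of_mem_of_not_mem hi hk)]⟩
    by_cases hfk : 0 ≤ f (a k)
    · exact ⟨f, Finset.forall_mem_insert _ _ _ |>.mpr ⟨hfk, hf⟩, hfv⟩
    rw [not_le] at hfk
    let π : V →ₗ[R] V := LinearMap.id - (f (a k))⁻¹ • f.smulRight (a k)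
    have hπk : π (a k) = 0 := by
      simp [π, smul_smul, inv_mul_cancel₀ hfk.ne]
    obtain ⟨g, hg, hgv⟩ := ih (π ∘ a) (π v) fun ⟨c, hc, hcv⟩ => by
      refine h ⟨Function.update c k ((f v - ∑ i ∈ s, c i * f (a i)) / f (a k)), fun i hi => ?_, ?_⟩
      · rcases Finset.mem_insert.mp hi with rfl | hi'
        · rw [Function.update_self]
          refine (div_nonneg_of_nonpos ?_ hfk.le)
          have : 0 ≤ ∑ l ∈ s, c l * f (a l) := Finset.sum_nonneg fun l hl => mul_nonneg (hc l hl) (hf l hl)
          linarith
        · rw [Function.update_of_ne (ne_of_mem_of_not_mem hi' hk)]; exact hc i hi'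
      · rw [Finset.sum_insert hk, Function.update_self,
          Finset.sum_congr rfl (fun i hi => by rw [Function.update_of_ne (ne_of_mem_of_not_mem hi hk)] :
            ∀ i ∈ s, Function.update c k ((f v - ∑ l ∈ s, c l * f (a l)) / f (a k)) i • a i = c i • a i)]
        simp only [π, Function.comp_apply, LinearMap.sub_apply, LinearMap.id_apply, LinearMap.smul_apply,
          LinearMap.smulRight_apply, smul_sub, smul_smul, Finset.sum_sub_distrib, ← Finset.sum_smul] at hcv
        rw [eq_sub_iff_add_eq] at hcv
        have e : ∑ x ∈ s, c x * ((f (a k))⁻¹ * f (a x)) = (f (a k))⁻¹ * ∑ x ∈ s, c x * f (a x) := by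
          rw [Finset.mul_sum]; exact Finset.sum_congr rfl fun i _ => by ring
        rw [e] at hcv
        rw [div_eq_inv_mul, mul_sub, sub_smul]
        linear_combination (norm := module) hcv
    refine ⟨g ∘ₗ π, Finset.forall_mem_insert _ _ _ |>.mpr ⟨?_, hg⟩, hgv⟩
    simp [hπk]

/-- A point outside the convex hull of a finite set is strictly separated from it. -/
theorem exists_dual_lt_of_not_mem_convexHull (s : Finset V) (x : V) (h : x ∉ convexHull R (s : Set V)) :
    ∃ g : V →ₗ[R] R, ∀ p ∈ s, g x < g p := by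
  classical
  obtain ⟨f, hf, hfx⟩ := exists_dual_of_not_mem_cone (R := R) s (fun p => (p, (1 : R))) (x, 1) fun ⟨c, hc, hsum⟩ => by
    rw [Prod.ext_iff, Prod.fst_sum, Prod.snd_sum] at hsum
    obtain ⟨h1, h2⟩ := hsum
    exact h (Finset.mem_convexHull'.mpr ⟨c, hc, by simpa using h2, by simpa using h1⟩)
  refine ⟨f ∘ₗ LinearMap.inl R V R, fun p hp => ?_⟩
  have e : ∀ q : V, f (q, 1) = f (q, 0) + f (0, 1) := fun q => by rw [← map_add]; simp
  have := hf p hp
  rw [e] at this hfx
  simp only [LinearMap.comp_apply, LinearMap.inl_apply]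
  linarith

end Groth.Agent.RootChLib
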