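import Groth.Agent.RootChLib.CCS

/-!
# Special facets of a root system with a complementary convex solid
-/

set_option autoImplicit false
set_option linter.unusedSectionVars false

noncomputable section

open Module RootCh

namespace Groth.Agent.RootChLib

universe u v w x

variable {ι : Type u} {R : Type v} {M : Type w} {N : Type x}
  [Field R] [LinearOrder R] [IsStrictOrderedRing R]
  [AddCommGroup M] [Module R M] [AddCommGroup N] [Module R N] [Finite ι]
  {P : RootPairing ι R M N} [P.IsRootSystem] [P.IsCrystallographic] [P.IsReduced]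
  {d : P.Base → N}

lemma mem_span_dualCarrier {F : Facet P} {η : M} (h : η ∈ Submodule.span R F.corners) :
    pol P η ∈ Submodule.span R F.dualCarrier := by
  rwa [mem_span_dualCarrier_iff, LinearEquiv.symm_apply_apply]

/-- `y(F)` exists and is unique. -/
theorem exists_yPoint (hd : IsCCS d) (F : Facet P) :
    ∃ η ∈ Submodule.span R F.corners, yLocus d F = {pol P η} := by
  obtain ⟨b, hb⟩ := cham_nonempty F
  have := module_finite_of_base b
  let W := Submodule.span R F.corners
  let T : W →ₗ[R] Dual R W :=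
    LinearMap.mk₂ R (fun a c : W => P.toLinearMap (c : M) (pol P (a : M)))
      (fun a a' c => by simp) (fun r a c => by simp) (fun a c c' => by simp) (fun r a c => by simp)
  have hT : Function.Injective T := by
    refine (injective_iff_map_eq_zero T).mpr fun a ha => ?_
    by_contra h0
    have h1 : T a a = 0 := by rw [ha]; rfl
    exact (pair_pol_pos (P := P) (ξ := (a : M)) fun h => h0 (Subtype.ext h)).ne' h1
  obtain ⟨a, ha⟩ := (LinearMap.injective_iff_surjective_of_finrank_eq_finrank
    (Subspace.dual_finrank_eq (K := R) (V := W)).symm).mp hT ((P.toLinearMap.flip (d b)).comp W.subtype)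
  refine ⟨a, a.2, Set.eq_singleton_iff_unique_mem.mpr ⟨⟨?_, mem_span_dualCarrier a.2⟩, ?_⟩⟩
  · exact (mem_iInter_hyper_iff hd hb _).mpr fun σ hσ => LinearMap.congr_fun ha ⟨σ, hσ⟩
  · rintro y ⟨hy, hy'⟩
    obtain ⟨η, rfl⟩ := (pol P).surjective y
    rw [SetLike.mem_coe, mem_span_dualCarrier_iff, LinearEquiv.symm_apply_apply] at hy'
    congr 1
    by_contra hne
    have hz : P.toLinearMap (η - a) (pol P (η - a)) = 0 := by
      rw [map_sub (pol P), map_sub, (mem_iInter_hyper_iff hd hb _).mp hy _ (Submodule.sub_mem _ hy' a.2),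
        sub_eq_zero]
      exact (LinearMap.congr_fun ha ⟨η - a, Submodule.sub_mem _ hy' a.2⟩).symm
    exact (pair_pol_pos (P := P) (sub_ne_zero.mpr hne)).ne' hz

lemma coroot'_eq_zero_of_mem_span {F : Facet P} {σ : M} (hσ : σ ∈ Submodule.span R F.corners) {i : ι}
    (hi : F.sgn i = 0) : P.coroot' i σ = 0 := by
  induction hσ using Submodule.span_induction with
  | mem m hm =>
    rcases hm.2 i with h | h
    · exact sign_eq_zero_iff.mp h
    · exact sign_eq_zero_iff.mp (h.trans hi)
  | zero => simp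
  | add a c _ _ ha hc => rw [map_add, ha, hc, add_zero]
  | smul r a _ ha => rw [map_smul, ha, smul_zero]

lemma root'_pol_expand (b : P.Base) (η : M) (i : ι) :
    P.root' i (pol P η) = ∑ k : b.support, P.coroot' k η * P.root' i (pol P (fundWeight b k)) := by
  conv_lhs => rw [expand b η]
  simp [map_sum, map_smul]

lemma mem_carrier_iff_pos {F : Facet P} {b : P.Base} (hb : b ∈ F.cham) {η : M}
    (hη : η ∈ Submodule.span R F.corners) :
    η ∈ F.carrier ↔ ∀ k : b.support, F.sgn k ≠ 0 → 0 < P.coroot' k η := by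
  refine ⟨fun h k hk => coroot'_pos_of_carrier hb h k.2 hk, fun h => mem_carrier_of hb (fun j hj => ?_) fun j hj => ?_⟩
  · by_cases h0 : F.sgn j = 0
    · exact (coroot'_eq_zero_of_mem_span hη h0).ge
    · exact (h ⟨j, hj⟩ h0).le
  · exact ⟨fun hp h0 => hp.ne' (coroot'_eq_zero_of_mem_span hη h0), h ⟨j, hj⟩⟩

/-- The numerical invariant as a positive multiple of a coordinate of `y(F)`. -/
lemma numInv_eq_mul (hd : IsCCS d) {F : Facet P} {b b' : P.Base} (hb : b ∈ F.cham) (hb' : b' ∈ F.cham)
    {η : M} (hη : η ∈ Submodule.span R F.corners) (hy : yLocus d F = {pol P η})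
    {k₀ : b.support} (hk₀ : F.sgn k₀ ≠ 0) :
    ∃ c : R, 0 < c ∧ F.numInv d (fundWeight b k₀) b' = c * P.coroot' k₀ η := by
  classical
  have hy' : pol P η ∈ ⋂ m ∈ F.corners, hyper d m :=
    ((Set.ext_iff.mp hy (pol P η)).mpr (Set.mem_singleton _)).1
  refine ⟨((Set.toFinite (F.Psi (fundWeight b k₀))).toFinset.card : R) * qlen P k₀,
    mul_pos (Nat.cast_pos.mpr (Finset.card_pos.mpr ⟨k₀, by simpa using self_mem_Psi hb hk₀⟩)) (qlen_pos _), ?_⟩
  rw [numInv_eq, ← (mem_iInter_hyper_iff hd hb' _).mp hy' _ (rootSum_Psi_mem_span hb hk₀), pair_rootSum,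
    Finset.sum_congr rfl (g := fun _ => qlen P k₀ * P.coroot' k₀ η), Finset.sum_const, nsmul_eq_mul]
  · ring
  intro i hi
  obtain ⟨hi1, hi2⟩ := (mem_Psi_iff hb hk₀ i).mp ((Set.Finite.mem_toFinset _).mp hi)
  rw [root'_pol_expand b η, Finset.sum_eq_single k₀ ?_ (by simp), pol_fundWeight, map_smul, hi1]
  · simp [mul_comm]
  · intro k _ hk
    by_cases h0 : F.sgn k = 0
    · rw [coroot'_eq_zero_of_mem_span hη h0, zero_mul]
    · rw [pol_fundWeight, map_smul, hi2 k h0 hk, smul_zero, mul_zero]

lemma yLocus_of_mem_dualSolid (hd : IsCCS d) {F : Facet P} {z : N} (hz : z ∈ dualSolid d F)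
    (hz' : z ∈ Submodule.span R F.dualCarrier) : z ∈ yLocus d F := by
  rw [dualSolid_eq hd] at hz
  exact ⟨hz.1, hz'⟩

/-- The criterion for a facet to be special. -/
theorem isSpecial_iff (hd : IsCCS d) {F : Facet P} {η : M} (hy : yLocus d F = {pol P η}) :
    IsSpecial d F ↔ η ∈ F.carrier ∧ pol P η ∈ dualSolid d F := by
  constructor
  · rintro ⟨z, hz, hz'⟩
    have := yLocus_of_mem_dualSolid hd hz' (Submodule.subset_span hz)
    rw [hy, Set.mem_singleton_iff] at this
    subst this
    exact ⟨pol_mem_dualCarrier.mp hz, hz'⟩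
  · exact fun ⟨h1, h2⟩ => ⟨_, pol_mem_dualCarrier.mpr h1, h2⟩

/-- (S1) and (S2) together are equivalent to being special. -/
theorem numInv_pos_and_meets_iff (hd : IsCCS d) (F : Facet P) :
    ((∀ m ∈ F.corners, ∀ b ∈ F.cham, 0 < F.numInv d m b) ∧
        (dualSolid d F ∩ (Submodule.span R F.dualCarrier : Set N)).Nonempty) ↔ IsSpecial d F := by
  obtain ⟨η, hη, hy⟩ := exists_yPoint hd F
  obtain ⟨b, hb⟩ := cham_nonempty F
  rw [isSpecial_iff hd hy, mem_carrier_iff_pos hb hη]
  constructor
  · rintro ⟨h1, z, hz, hz'⟩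
    have hzy := yLocus_of_mem_dualSolid hd hz hz'
    rw [hy, Set.mem_singleton_iff] at hzy
    refine ⟨fun k hk => ?_, hzy ▸ hz⟩
    obtain ⟨c, hc, he⟩ := numInv_eq_mul hd hb hb hη hy hk
    have := h1 _ (fundWeight_mem_corners hb hk) b hb
    rw [he] at this
    exact pos_of_mul_pos_right this hc.le
  · rintro ⟨h1, h2⟩
    refine ⟨fun m hm b' hb' => ?_, _, h2, mem_span_dualCarrier hη⟩
    obtain ⟨k, hk, rfl⟩ := exists_of_mem_corners hb hm
    obtain ⟨c, hc, he⟩ := numInv_eq_mul hd hb hb' hη hy hk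
    rw [he]
    exact mul_pos hc (h1 k hk)

lemma posPart_subset_of_le {F G : Facet P} (h : F ≤ G) : G.posPart ⊆ F.posPart := fun i hi => by
  simp only [Facet.posPart, Set.mem_ofPred_eq] at hi ⊢
  rcases h i with h' | h'
  · rw [hi] at h'; exact absurd h' (by decide)
  · rw [← h', hi]

lemma gam_sub_gam {F G : Facet P} (h : F ≤ G) : gam F - gam G = rootSum P (F.posPart \ G.posPart) := by
  classical
  simp only [gam, rootSum]
  rw [← Finset.sum_sdiff_eq_sub (by simpa using posPart_subset_of_le h)]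
  refine Finset.sum_congr ?_ fun _ _ => rfl
  ext i
  simp only [Finset.mem_sdiff, Set.Finite.mem_toFinset]
  rfl

/-- A facet maximal among those of maximal degree is special. -/
theorem isSpecial_of_maximal (hd : IsCCS d) {F : Facet P} {b : P.Base} (hb : b ∈ F.cham)
    (hmax : ∀ (G : Facet P) (c : P.Base), c ∈ G.cham → G.deg d c ≤ F.deg d b)
    (hmaxl : ∀ (G : Facet P) (c : P.Base), c ∈ G.cham → G.deg d c = F.deg d b → F ≤ G → G = F) :
    IsSpecial d F := by
  classical
  obtain ⟨η, hη, hy⟩ := exists_yPoint hd F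
  have hyh : pol P η ∈ ⋂ m ∈ F.corners, hyper d m :=
    ((Set.ext_iff.mp hy (pol P η)).mpr (Set.mem_singleton _)).1
  refine (isSpecial_iff hd hy).mpr ⟨(mem_carrier_iff_pos hb hη).mpr fun k₀ hk₀ => ?_, ?_⟩
  · set G := facetOf b ((supp F b).erase k₀)
    have hbG : b ∈ G.cham := mem_cham_facetOf b _
    have hFG : F ≤ G := (facetOf_le b hb).mpr fun k hk => mem_supp.mp (Finset.mem_of_mem_erase hk)
    have hne : G ≠ F := fun h => by
      have := (facetOf_sgn_ne_zero_iff b ((supp F b).erase k₀) k₀).mp (by rw [show facetOf b _ = F from h]; exact hk₀)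
      exact Finset.notMem_erase _ _ this
    have hlt : G.deg d b < F.deg d b :=
      lt_of_le_of_ne (hmax G b hbG) fun h => hne (hmaxl G b hbG h hFG)
    have hσ : gam F - gam G ∈ Submodule.span R F.corners := by
      refine Submodule.sub_mem _ (gam_mem_span F) ((mem_span_corners_iff hb _).mpr fun j hj h0 => ?_)
      refine coroot'_eq_zero_of_sgn (gam_mem_carrier G) ?_
      by_contra hG
      exact mem_supp.mp (Finset.mem_of_mem_erase ((facetOf_sgn_ne_zero_iff b _ ⟨j, hj⟩).mp hG)) h0
    rw [deg_eq, deg_eq, ← sub_pos, ← LinearMap.sub_apply, ← map_sub,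
      ← (mem_iInter_hyper_iff hd hb _).mp hyh _ hσ, gam_sub_gam hFG, pair_rootSum] at hlt
    have key : ∀ i ∈ (Set.toFinite (F.posPart \ G.posPart)).toFinset,
        0 ≤ P.root' i (pol P (fundWeight b k₀)) ∧
          P.root' i (pol P η) = P.coroot' k₀ η * P.root' i (pol P (fundWeight b k₀)) := by
      intro i hi
      obtain ⟨hi1, hi2⟩ := (Set.Finite.mem_toFinset _).mp hi
      have hipos : b.IsPos i := isPos_of_sgn_eq_one hb hi1
      refine ⟨?_, ?_⟩
      · rw [root'_pol]
        exact mul_nonneg (qlen_pos i).le (coroot'_nonneg (fundWeight_mem_closedChamber b k₀) hipos)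
      rw [root'_pol_expand b η, Finset.sum_eq_single k₀ ?_ (by simp)]
      intro k _ hk
      by_cases h0 : F.sgn k = 0
      · rw [coroot'_eq_zero_of_mem_span hη h0, zero_mul]
      have hG0 : G.sgn i = 0 := by
        have h1 := sgn_ne_neg_one_of_pos hbG hipos
        simp only [Facet.posPart, Set.mem_ofPred_eq] at hi2
        revert h1 hi2
        generalize G.sgn i = a
        revert a
        decide
      rw [root'_pol, coroot'_eq_zero_of_mem_span (Submodule.subset_span (fundWeight_mem_corners hbG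
        ((facetOf_sgn_ne_zero_iff b _ k).mpr (Finset.mem_erase.mpr ⟨hk, mem_supp.mpr h0⟩)))) hG0, mul_zero, mul_zero]
    rw [Finset.sum_congr rfl fun i hi => (key i hi).2, ← Finset.mul_sum] at hlt
    exact pos_of_mul_pos_left hlt (Finset.sum_nonneg fun i hi => (key i hi).1)
  · rw [dualSolid_eq hd]
    refine ⟨hyh, ?_⟩
    simp only [Facet.corners', Set.mem_iInter, Set.mem_iUnion]
    rintro m ⟨c, hc, hm⟩
    obtain ⟨k₁, rfl⟩ : m ∈ Set.range (fundWeight c) := baseCorners_eq c ▸ hm
    rw [mem_halfClosed_iff hd]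
    by_cases h1 : F.sgn k₁ ≠ 0
    · exact ((mem_iInter_hyper_iff hd hc _).mp hyh _ (Submodule.subset_span (fundWeight_mem_corners hc h1))).ge
    rw [not_not] at h1
    set G := facetOf c (insert k₁ (supp F c))
    have hcG : c ∈ G.cham := mem_cham_facetOf c _
    have hGF : G ≤ F := by
      rw [← facetOf_supp hc]
      exact (facetOf_le c hcG).mpr fun k hk => (facetOf_sgn_ne_zero_iff c _ k).mpr (Finset.mem_insert_of_mem hk)
    have hle : G.deg d c ≤ F.deg d c := (hmax G c hcG).trans (deg_eq_deg hd F hb hc).le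
    rw [deg_eq, deg_eq, ← sub_nonpos, ← LinearMap.sub_apply, ← map_sub] at hle
    set Δ := gam G - gam F with hΔdef
    have hpos : 0 < P.coroot' k₁ Δ := by
      rw [hΔdef, map_sub, coroot'_eq_zero_of_sgn (gam_mem_carrier F) h1, sub_zero]
      exact coroot'_pos_of_carrier hcG (gam_mem_carrier G) k₁.2
        ((facetOf_sgn_ne_zero_iff c _ k₁).mpr (Finset.mem_insert_self _ _))
    have hy0 : P.toLinearMap Δ (pol P η) = 0 := by
      rw [hΔdef, gam_sub_gam hGF, pair_rootSum]
      refine Finset.sum_eq_zero fun i hi => ?_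
      obtain ⟨hi1, hi2⟩ := (Set.Finite.mem_toFinset _).mp hi
      have h0 : F.sgn i = 0 := by
        simp only [Facet.posPart, Set.mem_ofPred_eq] at hi1 hi2
        rcases hGF i with h' | h'
        · exact h'
        · exact absurd (h'.trans hi1) hi2
      rw [root'_pol, coroot'_eq_zero_of_mem_span hη h0, mul_zero]
    have hsum : P.toLinearMap Δ (d c) - P.toLinearMap Δ (pol P η) =
        P.coroot' k₁ Δ * (P.toLinearMap (fundWeight c k₁) (d c) - P.toLinearMap (fundWeight c k₁) (pol P η)) := by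
      have e : ∀ w, P.toLinearMap Δ w = ∑ l : c.support, P.coroot' l Δ * P.toLinearMap (fundWeight c l) w := fun w => by
        conv_lhs => rw [expand c Δ]
        simp only [map_sum, map_smul, LinearMap.sum_apply, LinearMap.smul_apply, smul_eq_mul]
      rw [e, e, ← Finset.sum_sub_distrib]
      simp only [← mul_sub]
      rw [Finset.sum_eq_single k₁ ?_ (by simp)]
      intro k _ hk
      by_cases h0 : F.sgn k = 0
      · have hGk : G.sgn k = 0 := by
          by_contra hG
          rcases Finset.mem_insert.mp ((facetOf_sgn_ne_zero_iff c _ k).mp hG) with h | h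
          · exact hk h
          · exact mem_supp.mp h h0
        rw [hΔdef, map_sub, coroot'_eq_zero_of_sgn (gam_mem_carrier F) h0,
          coroot'_eq_zero_of_sgn (gam_mem_carrier G) hGk, sub_self, zero_mul]
      · rw [(mem_iInter_hyper_iff hd hc _).mp hyh _ (Submodule.subset_span (fundWeight_mem_corners hc h0)),
          sub_self, mul_zero]
    rw [hy0, sub_zero] at hsum
    rw [hsum] at hle
    exact sub_nonpos.mp (nonpos_of_mul_nonpos_right hle hpos)

/-- The special facet is the greatest among the facets of maximal degree. -/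
theorem isGreatest_of_isSpecial (hd : IsCCS d) {F : Facet P} {b : P.Base} (hb : b ∈ F.cham) (hF : IsSpecial d F) :
    (∀ (G : Facet P) (c : P.Base), c ∈ G.cham → G.deg d c ≤ F.deg d b) ∧
      ∀ (G : Facet P) (c : P.Base), c ∈ G.cham → G.deg d c = F.deg d b → G ≤ F := by
  classical
  let := Fintype.ofFinite ι
  obtain ⟨z, hz, hz'⟩ := hF
  have hsgn : ∀ i, F.sgn i = SignType.sign (P.root' i z) := fun i => (congrFun hz i).symm
  have hzF : z ∈ ⋂ m ∈ F.corners, hyper d m := by rw [dualSolid_eq hd] at hz'; exact hz'.1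
  have hFdeg : F.deg d b = ∑ i, if F.sgn i = 1 then P.root' i z else 0 := by
    rw [deg_eq, ← (mem_iInter_hyper_iff hd hb z).mp hzF _ (gam_mem_span F), gam, pair_rootSum, ← Finset.sum_filter]
    refine Finset.sum_congr ?_ fun _ _ => rfl
    ext i; simp [Facet.posPart]
  have hGdeg : ∀ (G : Facet P) (c : P.Base), c ∈ G.cham →
      G.deg d c ≤ ∑ i, if G.sgn i = 1 then P.root' i z else 0 := by
    intro G c hc
    rw [deg_eq]
    refine (le_pair_of_mem_hull (P := P) (dualSolid_subset_solid F hz') (gam G) _ ?_).trans_eq ?_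
    · rintro _ ⟨c', rfl⟩
      exact pair_le hd (hc (gam_mem_carrier G)) c'
    · rw [gam, pair_rootSum, ← Finset.sum_filter]
      refine Finset.sum_congr ?_ fun _ _ => rfl
      ext i; simp [Facet.posPart]
  have hterm : ∀ (G : Facet P) i,
      (if G.sgn i = 1 then P.root' i z else 0) ≤ if F.sgn i = 1 then P.root' i z else 0 := by
    intro G i
    have := hsgn i
    rcases lt_trichotomy (P.root' i z) 0 with h | h | h
    · rw [sign_neg h] at this
      rw [if_neg (by rw [this]; decide : ¬ F.sgn i = 1)]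
      split_ifs
      · exact h.le
      · exact le_rfl
    · simp [h]
    · rw [sign_pos h] at this
      rw [if_pos this]
      split_ifs
      · exact le_rfl
      · exact h.le
  refine ⟨fun G c hc => (hGdeg G c hc).trans ((Finset.sum_le_sum fun i _ => hterm G i).trans_eq hFdeg.symm),
    fun G c hc heq => ?_⟩
  have heq' : (∑ i, if G.sgn i = 1 then P.root' i z else 0) = ∑ i, if F.sgn i = 1 then P.root' i z else 0 :=
    le_antisymm (Finset.sum_le_sum fun i _ => hterm G i) (hFdeg.symm.trans_le (heq.symm.trans_le (hGdeg G c hc)))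
  have hall := (Finset.sum_eq_sum_iff_of_le fun i _ => hterm G i).mp heq'
  have key : ∀ i, F.sgn i = 1 → G.sgn i = 1 := by
    intro i hi
    by_contra hG
    have := hall i (Finset.mem_univ i)
    rw [if_neg hG, if_pos hi] at this
    have hs := hsgn i
    rw [hi, ← this, sign_zero] at hs
    exact absurd hs (by decide)
  intro i
  rcases hFi : F.sgn i with _ | _ | _
  · exact Or.inl rfl
  · right
    have := key (ng P i) (by rw [sgn_ng, hFi]; rfl)
    rw [sgn_ng, neg_eq_iff_eq_neg] at this
    rw [this]; rfl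
  · exact Or.inr (key i hFi).symm

/-- There is exactly one special facet. -/
theorem existsUnique_isSpecial (hd : IsCCS d) : ∃! F : Facet P, IsSpecial d F := by
  classical
  let := Fintype.ofFinite ι
  have : Finite (Facet P) := Finite.of_injective Facet.sgn fun F G h => Facet.ext h
  let := Fintype.ofFinite (Facet P)
  have : Nonempty (Facet P) := ⟨Facet.origin P⟩
  let h : Facet P → R := fun F => F.deg d (cham_nonempty F).choose
  have hh : ∀ (F : Facet P) (b : P.Base), b ∈ F.cham → F.deg d b = h F :=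
    fun F b hb => deg_eq_deg hd F hb (cham_nonempty F).choose_spec
  obtain ⟨F₀, -, hF₀⟩ := Finset.exists_max_image Finset.univ h Finset.univ_nonempty
  obtain ⟨F, hFmem, hFmax⟩ := (Finset.univ.filter fun F => h F = h F₀).exists_maximal ⟨F₀, by simp⟩
  simp only [Finset.mem_filter, Finset.mem_univ, true_and] at hFmem hFmax
  obtain ⟨b, hb⟩ := cham_nonempty F
  refine ⟨F, isSpecial_of_maximal hd hb (fun G c hc => ?_) (fun G c hc he hle => ?_), fun G hG => ?_⟩
  · rw [hh G c hc, hh F b hb, hFmem]; exact hF₀ G (Finset.mem_univ _)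
  · exact le_antisymm (hFmax (by rw [← hh G c hc, he, hh F b hb, hFmem]) hle) hle
  · obtain ⟨c, hc⟩ := cham_nonempty G
    have hFs : IsSpecial d F := isSpecial_of_maximal hd hb (fun G c hc => by
      rw [hh G c hc, hh F b hb, hFmem]; exact hF₀ G (Finset.mem_univ _)) (fun G c hc he hle =>
      le_antisymm (hFmax (by rw [← hh G c hc, he, hh F b hb, hFmem]) hle) hle)
    have h1 := isGreatest_of_isSpecial hd hb hFs
    have h2 := isGreatest_of_isSpecial hd hc hG
    have he : G.deg d c = F.deg d b := le_antisymm (h1.1 G c hc) (h2.1 F b hb)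
    exact le_antisymm (h1.2 G c hc he) (h2.2 F b hb he.symm)

/-- `ψ y` represents `B(y, ·)`; its sign vector is the cosign vector of `y`. -/
lemma sgnVec_form (B : LinearMap.BilinForm R N) (hBp : ∀ y : N, y ≠ 0 → 0 < B y y)
    (hBi : ∀ (i : ι) (y z : N), B (P.coreflection i y) (P.coreflection i z) = B y z) (y : N) :
    sgnVec P (P.toPerfPair.symm (B y)) = cosgnVec P y := by
  funext i
  have h1 : P.coroot' i (P.toPerfPair.symm (B y)) = B y (P.coroot i) :=
    LinearMap.congr_fun (P.toPerfPair.apply_symm_apply (B y)) _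
  have h2 := hBi i y (P.coroot i)
  rw [RootPairing.coreflection_apply_self, RootPairing.coreflection_apply, map_neg, map_sub, map_smul,
    LinearMap.sub_apply, LinearMap.smul_apply, smul_eq_mul] at h2
  have hc : 0 < B (P.coroot i) (P.coroot i) := hBp _ (P.ne_zero' i)
  have h3 : B y (P.coroot i) = P.root' i y * (B (P.coroot i) (P.coroot i) / 2) := by linarith
  simp only [sgnVec, cosgnVec, h1, h3, sign_mul, sign_pos (half_pos hc), mul_one]

/-- The point of a special facet is the unique point of the solid closest to the origin. -/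
theorem isMinOn_of_isSpecial (hd : IsCCS d) (B : LinearMap.BilinForm R N) (hBs : ∀ y z : N, B y z = B z y)
    (hBp : ∀ y : N, y ≠ 0 → 0 < B y y)
    (hBi : ∀ (i : ι) (y z : N), B (P.coreflection i y) (P.coreflection i z) = B y z)
    {F : Facet P} (hF : IsSpecial d F) :
    ∃ y₀ : N, yLocus d F = {y₀} ∧ y₀ ∈ solid d ∧ ∀ y ∈ solid d, y ≠ y₀ → B y₀ y₀ < B y y := by
  obtain ⟨η, hη, hy⟩ := exists_yPoint hd F
  obtain ⟨h1, h2⟩ := (isSpecial_iff hd hy).mp hF
  refine ⟨_, hy, dualSolid_subset_solid F h2, fun z hz hne => ?_⟩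
  set y₀ := pol P η
  set ξ := P.toPerfPair.symm (B y₀)
  have hξ : ∀ w, P.toLinearMap ξ w = B y₀ w := fun w => LinearMap.congr_fun (P.toPerfPair.apply_symm_apply _) w
  have hξF : ξ ∈ F.carrier := (sgnVec_form B hBp hBi y₀).trans (pol_mem_dualCarrier.mpr h1)
  obtain ⟨b, hb⟩ := cham_nonempty F
  have hh : P.toLinearMap ξ y₀ = P.toLinearMap ξ (d b) := by
    rw [dualSolid_eq hd] at h2
    exact (mem_iInter_hyper_iff hd hb _).mp h2.1 _ (carrier_subset_span_corners F hξF)
  have hle : P.toLinearMap ξ y₀ ≤ P.toLinearMap ξ z := hh ▸ le_pair_of_mem_hull hz ξ _ (by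
    rintro _ ⟨c, rfl⟩; exact pair_le hd (hb hξF) c)
  rw [hξ, hξ] at hle
  have hd0 := hBp (z - y₀) (sub_ne_zero.mpr hne)
  simp only [map_sub, LinearMap.sub_apply, hBs z y₀] at hd0
  linarith

/-- The facet of the point of the solid closest to the origin is special. -/
theorem isSpecial_of_isMinOn (hd : IsCCS d) (B : LinearMap.BilinForm R N) (hBs : ∀ y z : N, B y z = B z y)
    (hBp : ∀ y : N, y ≠ 0 → 0 < B y y)
    (hBi : ∀ (i : ι) (y z : N), B (P.coreflection i y) (P.coreflection i z) = B y z)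
    {y₀ : N} (hy₀ : y₀ ∈ solid d) (hmin : ∀ y ∈ solid d, B y₀ y₀ ≤ B y y)
    {F : Facet P} (hF : y₀ ∈ F.dualCarrier) : IsSpecial d F ∧ yLocus d F = {y₀} := by
  set ξ := P.toPerfPair.symm (B y₀)
  have hξ : ∀ w, P.toLinearMap ξ w = B y₀ w := fun w => LinearMap.congr_fun (P.toPerfPair.apply_symm_apply _) w
  have hξF : ξ ∈ F.carrier := (sgnVec_form B hBp hBi y₀).trans hF
  have hfirst : ∀ z ∈ solid d, B y₀ y₀ ≤ B y₀ z := by
    intro z hz
    by_contra! hlt
    have hne : z - y₀ ≠ 0 := fun h => by rw [sub_eq_zero.mp h] at hlt; exact lt_irrefl _ hlt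
    set Q := B (z - y₀) (z - y₀) with hQ
    have hQ0 : 0 < Q := hBp _ hne
    set δ := B y₀ y₀ - B y₀ z with hδ
    have hδ0 : 0 < δ := sub_pos.mpr hlt
    set t := min 1 (δ / Q)
    have ht0 : 0 < t := lt_min one_pos (div_pos hδ0 hQ0)
    have htQ : t * Q ≤ δ := (le_div_iff₀ hQ0).mp (min_le_right _ _)
    have hmem : (1 - t) • y₀ + t • z ∈ solid d :=
      convex_convexHull R _ hy₀ hz (sub_nonneg.mpr (min_le_left _ _)) ht0.le (sub_add_cancel 1 t)
    have h := hmin _ hmem
    simp only [map_add, map_smul, LinearMap.add_apply, LinearMap.smul_apply, smul_eq_mul, hBs z y₀] at h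
    have hQe : Q = B z z - 2 * B y₀ z + B y₀ y₀ := by
      rw [hQ]; simp only [map_sub, LinearMap.sub_apply, hBs z y₀]; ring
    have h' : 0 ≤ t * (t * Q - 2 * δ) := by rw [hQe, hδ]; linarith
    nlinarith
  obtain ⟨b, hb⟩ := cham_nonempty F
  have hmem : y₀ ∈ ⋂ m ∈ F.corners, hyper d m := by
    refine (mem_iInter_hyper_iff hd hb y₀).mpr fun σ hσ => ?_
    have hge : ∀ k : b.support, P.toLinearMap (fundWeight b k) (d b) ≤ P.toLinearMap (fundWeight b k) y₀ :=
      fun k => (mem_solid_iff hd y₀).mp hy₀ b _ ⟨fundWeight_mem_fundWeights b k, fundWeight_mem_closedChamber b k⟩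
    have hle : P.toLinearMap ξ y₀ ≤ P.toLinearMap ξ (d b) := by
      rw [hξ, hξ]; exact hfirst _ (subset_convexHull R _ ⟨b, rfl⟩)
    have hzero : ∀ k : b.support, P.coroot' k ξ *
        (P.toLinearMap (fundWeight b k) y₀ - P.toLinearMap (fundWeight b k) (d b)) = 0 := by
      refine fun k => (Finset.sum_eq_zero_iff_of_nonneg (f := fun l : b.support => P.coroot' l ξ *
        (P.toLinearMap (fundWeight b l) y₀ - P.toLinearMap (fundWeight b l) (d b))) fun l _ =>
        mul_nonneg (hb hξF l l.2) (sub_nonneg.mpr (hge l))).mp (le_antisymm ?_ ?_) k (Finset.mem_univ k)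
      · have e : ∀ w, P.toLinearMap ξ w = ∑ l : b.support, P.coroot' l ξ * P.toLinearMap (fundWeight b l) w := fun w => by
          conv_lhs => rw [expand b ξ]
          simp only [map_sum, map_smul, LinearMap.sum_apply, LinearMap.smul_apply, smul_eq_mul]
        simp only [mul_sub, Finset.sum_sub_distrib, ← e]
        linarith
      · exact Finset.sum_nonneg fun l _ => mul_nonneg (hb hξF l l.2) (sub_nonneg.mpr (hge l))
    induction hσ using Submodule.span_induction with
    | mem m hm =>
      obtain ⟨k, hk, rfl⟩ := exists_of_mem_corners hb hm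
      exact sub_eq_zero.mp ((mul_eq_zero.mp (hzero k)).resolve_left (coroot'_pos_of_carrier hb hξF k.2 hk).ne')
    | zero => simp
    | add a c _ _ ha hc => rw [map_add, LinearMap.add_apply, LinearMap.add_apply, ha, hc]
    | smul r a _ ha => rw [map_smul, LinearMap.smul_apply, LinearMap.smul_apply, ha]
  have hsolid : y₀ ∈ dualSolid d F := by
    rw [dualSolid_eq hd]
    refine ⟨hmem, ?_⟩
    simp only [Set.mem_iInter]
    intro m _ c hc
    exact (mem_solid_iff hd y₀).mp hy₀ c m hc
  refine ⟨⟨y₀, hF, hsolid⟩, ?_⟩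
  obtain ⟨η, -, hy⟩ := exists_yPoint hd F
  have : y₀ ∈ yLocus d F := ⟨hmem, Submodule.subset_span hF⟩
  rw [hy, Set.mem_singleton_iff] at this
  rw [hy, this]

/-- The point of a special facet. -/
theorem exists_yLocus_inter (hd : IsCCS d) {F : Facet P} (hF : IsSpecial d F) :
    ∃ y₀ : N, yLocus d F = {y₀} ∧ F.dualCarrier ∩ dualSolid d F = {y₀} := by
  obtain ⟨η, -, hy⟩ := exists_yPoint hd F
  obtain ⟨h1, h2⟩ := (isSpecial_iff hd hy).mp hF
  refine ⟨_, hy, Set.eq_singleton_iff_unique_mem.mpr ⟨⟨pol_mem_dualCarrier.mpr h1, h2⟩, fun z hz => ?_⟩⟩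
  have := yLocus_of_mem_dualSolid hd hz.2 (Submodule.subset_span hz.1)
  rwa [hy] at this

end Groth.Agent.RootChLib
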